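import Cfsg.Agent.Lib.TwoPrimeBound.Three
import Cfsg.Agent.S0948
import Cfsg.Agent.S4479
import Cfsg.Agent.S3278
import Cfsg.Agent.S0202
import Cfsg.Agent.S0203
import Cfsg.Agent.S0992

/-!
# Simple groups of order `4 p^a q^b`
-/

namespace CfsgLib.TwoPrimeBound

open Cfsg CfsgLib.CharTheory CfsgLib.Blocks

variable {G : Type*} [Group G] [Finite G] [IsSimpleGroup G]

/-- A Klein four-subgroup does not occur in degree two. -/
theorem no_klein_degree_two (ρ : Representation ℂ G (Fin 2 → ℂ)) [ρ.IsIrreducible]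
    (hna : ∃ a b : G, a * b ≠ b * a) (hne : ρ.character ≠ fun _ => 1) (T : Subgroup G)
    (hT : IsKleinFour T) : False := by
  classical
  haveI := hT
  have hsq : ∀ a : T, a * a = 1 := fun a => by
    have h := Monoid.pow_exponent_eq_one a
    rwa [hT.exponent_two, sq] at h
  have hab : ∀ a ∈ T, ∀ b ∈ T, a * b = b * a := fun a ha b hb =>
    congrArg Subtype.val (mul_comm_of_exponent_two hT.exponent_two ⟨a, ha⟩ ⟨b, hb⟩)
  obtain ⟨s, hs, hroot, hvec, hdec⟩ := exists_weights ρ T hab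
  obtain ⟨a, ha1⟩ : ∃ a : T, a ≠ 1 := by
    haveI : Nontrivial T := Finite.one_lt_card_iff_nontrivial.1 (by rw [hT.card_four]; norm_num)
    exact exists_ne 1
  obtain ⟨b, hb1, hba⟩ : ∃ b : T, b ≠ 1 ∧ b ≠ a := by
    by_contra hcon
    push Not at hcon
    haveI := Fintype.ofFinite T
    have : (Finset.univ : Finset T) ⊆ {1, a} := fun b _ => by
      by_cases hb : b = 1
      · simp [hb]
      · simp [hcon b hb]
    have h := Finset.card_le_card this
    rw [Finset.card_univ, ← Nat.card_eq_fintype_card, hT.card_four] at h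
    exact absurd (h.trans Finset.card_le_two) (by norm_num)
  have hab1 : a * b ≠ 1 := fun h => hba (by
    rw [← hsq a] at h
    exact mul_left_cancel h)
  have hval : ∀ χ ∈ s, ∀ c : T, χ c = 1 ∨ χ c = -1 := fun χ hχ c => by
    have h2 : χ c ^ 2 = 1 := by
      obtain ⟨e, he⟩ := orderOf_dvd_of_pow_eq_one (G := G) (x := (c : G)) (n := 2)
        (by rw [sq]; exact congrArg Subtype.val (hsq c))
      rw [he, pow_mul, hroot χ hχ c, one_pow]
    exact sq_eq_one_iff.1 h2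
  have hmul : ∀ χ ∈ s, χ (a * b) = χ a * χ b := by
    intro χ hχ
    obtain ⟨v, hv, hve⟩ := hvec χ hχ
    refine smul_left_injective ℂ hv ?_
    show χ (a * b) • v = (χ a * χ b) • v
    rw [← hve (a * b), Subgroup.coe_mul, map_mul, Module.End.mul_apply, hve b, map_smul, hve a,
      smul_smul, mul_comm]
  have hcoe : ∀ c : T, c ≠ 1 → (c : G) ≠ 1 := fun c hc h => hc (Subtype.ext h)
  rcases Nat.lt_or_ge s.card 2 with h | h
  · obtain ⟨ω, hω⟩ : ∃ ω, ∀ χ ∈ s, χ a = ω := by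
      rcases s.eq_empty_or_nonempty with h0 | ⟨χ₀, h0⟩
      · exact ⟨1, fun χ hχ => by simp [h0] at hχ⟩
      · exact ⟨χ₀ a, fun χ hχ => by rw [Finset.card_le_one.1 (by omega) χ hχ χ₀ h0]⟩
    exact hcoe a ha1 (eq_one_of_weights ρ hna hne hdec a hω)
  · obtain ⟨χ₁, χ₂, -, rfl⟩ := Finset.card_eq_two.1 (le_antisymm hs h)
    by_cases h1 : χ₁ a = χ₂ a
    · exact hcoe a ha1 (eq_one_of_weights ρ hna hne hdec a (ω := χ₁ a) (by simp [h1]))
    by_cases h2 : χ₁ b = χ₂ b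
    · exact hcoe b hb1 (eq_one_of_weights ρ hna hne hdec b (ω := χ₁ b) (by simp [h2]))
    refine hcoe _ hab1 (eq_one_of_weights ρ hna hne hdec (a * b) (ω := χ₁ (a * b)) ?_)
    simp only [Finset.mem_insert, Finset.mem_singleton, forall_eq_or_imp, forall_eq, true_and]
    rw [hmul χ₁ (by simp), hmul χ₂ (by simp)]
    rcases hval χ₁ (by simp) a with e1 | e1 <;> rcases hval χ₂ (by simp) a with e2 | e2 <;>
      rcases hval χ₁ (by simp) b with e3 | e3 <;> rcases hval χ₂ (by simp) b with e4 | e4 <;>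
      simp_all

theorem smooth_dvd {n m : ℕ} (hn : n ≠ 0) (hlt : n < 2 ^ 18)
    (h : ∀ r, r.Prime → r ∣ n → r ∣ m) : n ∣ m ^ 18 := by
  rcases Nat.eq_zero_or_pos m with rfl | hm
  · simp
  rw [← Nat.factorization_le_iff_dvd hn (pow_ne_zero _ hm.ne'), Nat.factorization_pow]
  intro r
  by_cases hr : n.factorization r = 0
  · rw [hr]; exact Nat.zero_le _
  have hrp : r.Prime := Nat.prime_of_mem_primeFactors
    (by rwa [← Nat.support_factorization, Finsupp.mem_support_iff])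
  have hrn : r ∣ n := Nat.dvd_of_factorization_pos hr
  have h1 : 1 ≤ m.factorization r := hrp.factorization_pos_of_dvd hm.ne' (h r hrp hrn)
  have h2 : 2 ^ n.factorization r ≤ n := (Nat.pow_le_pow_left hrp.two_le _).trans
    (Nat.le_of_dvd (Nat.pos_of_ne_zero hn) (Nat.ordProj_dvd n r))
  have h3 := (Nat.pow_lt_pow_iff_right (by norm_num : 1 < 2)).1 (lt_of_le_of_lt h2 hlt)
  simp only [Finsupp.coe_smul, Pi.smul_apply, smul_eq_mul]
  omega

theorem smooth_next : ∀ l' ∈ ({5, 7} : Finset ℕ), ∀ i ∈ Finset.range 6, ∀ j ∈ Finset.range 4, (3 ^ i * l' ^ j) % 4 = 1 →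
    1 < 3 ^ i * l' ^ j → (3 ^ i * l' ^ j + 1) ∣ (2 * 3 * l') ^ 18 →
    l' = 5 ∧ (3 ^ i * l' ^ j = 5 ∨ 3 ^ i * l' ^ j = 9) := by decide

theorem smooth_prev : ∀ i ∈ Finset.range 6, ∀ j ∈ Finset.range 4, (3 ^ i * 5 ^ j) % 4 = 3 →
    (3 ^ i * 5 ^ j - 1) ∣ (2 * 3 * 5) ^ 18 → 3 ^ i * 5 ^ j = 3 := by decide

theorem degree_dvd (χ : IrrCharacter G) : charDegree (χ : G → ℂ) ∣ Nat.card G := by
  obtain ⟨n, ρ, hirr, hρ⟩ := χ.2
  have h1 := irr_charDegree_cast χ
  rw [← hρ, Representation.char_one, Module.finrank_fin_fun] at h1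
  rw [← hρ, show charDegree ρ.character = n by exact_mod_cast h1]
  exact LinearGroups.irr_degree_dvd χ.2 (by rw [← hρ, Representation.char_one, Module.finrank_fin_fun])

theorem degree_ne_one (hna : ∃ a b : G, a * b ≠ b * a) (χ : IrrCharacter G)
    (hne : (χ : G → ℂ) ≠ fun _ => 1) : charDegree (χ : G → ℂ) ≠ 1 := fun h => by
  obtain ⟨ρ, hirr, hne'⟩ := exists_rep χ h hne
  have := two_lt_degree ρ hna hne'
  omega

/-- Simple groups of order `4 * 3 ^ α * l ^ β` with a character of degree four. -/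
theorem four_main (hna : ∃ a b : G, a * b ≠ b * a) (χ : IrrCharacter G)
    (hχ : charDegree (χ : G → ℂ) = 4) (hχne : (χ : G → ℂ) ≠ fun _ => 1) {l α β : ℕ} (hl : l.Prime)
    (hl3 : 3 < l) (hβ : β ≠ 0) (hG : Nat.card G = 4 * 3 ^ α * l ^ β) :
    Nonempty (G ≃* alternatingGroup (Fin 5)) := by
  classical
  haveI := Fintype.ofFinite G
  obtain ⟨ρ, hirr, hne⟩ := exists_rep χ hχ hχne
  haveI := hirr
  haveI : Fact l.Prime := ⟨hl⟩
  haveI : Fact (Nat.Prime 2) := ⟨Nat.prime_two⟩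
  haveI : Fact (Nat.Prime 3) := ⟨Nat.prime_three⟩
  have h3d : 3 ^ α ∣ Nat.card G := ⟨4 * l ^ β, by rw [hG]; ring⟩
  have hld : l ^ β ∣ Nat.card G := ⟨4 * 3 ^ α, by rw [hG]; ring⟩
  have hl57 : l = 5 ∨ l = 7 := by
    have h : l ≤ 9 := by
      by_contra hgt
      have := prime_le ρ hna hne hl ((dvd_pow_self l hβ).trans hld) (by omega)
      omega
    interval_cases l <;> first | omega | (norm_num at hl)
  have hα : α ≤ 5 := by
    have hb := prime_pow_le ρ hna hne h3d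
    have h6 : (Nat.factorial 4).factorization 3 = 1 := by
      rw [show Nat.factorial 4 = 3 * 8 by rfl, Nat.factorization_mul (by norm_num) (by norm_num)]
      simp [Nat.Prime.factorization_self Nat.prime_three, Nat.factorization_eq_zero_of_not_dvd (show ¬ 3 ∣ 8 by norm_num)]
    rw [h6] at hb
    by_contra hgt
    have : 3 ^ 6 ≤ 3 ^ α := Nat.pow_le_pow_right (by norm_num) (by omega)
    norm_num at hb this
    omega
  have hβ3 : β ≤ 3 := by
    have hb := prime_pow_le ρ hna hne hld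
    have hnd : ¬ l ∣ Nat.factorial 4 := by rcases hl57 with rfl | rfl <;> decide
    rw [Nat.factorization_eq_zero_of_not_dvd hnd] at hb
    by_contra hgt
    have h1 : l ^ 4 ≤ l ^ β := Nat.pow_le_pow_right hl.pos (by omega)
    have h2 : 5 ^ 4 ≤ l ^ 4 := Nat.pow_le_pow_left (by omega) 4
    norm_num at hb h2
    omega
  set g₀ := 3 ^ α * l ^ β with hg₀
  have hG' : Nat.card G = 4 * g₀ := by rw [hG, hg₀]; ring
  have hg₀odd : Odd g₀ := (Odd.pow (by decide)).mul (Odd.pow (hl.odd_of_ne_two (by omega)))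
  have hg₀1 : 1 < g₀ := lt_of_lt_of_le (Nat.one_lt_pow hβ hl.one_lt)
    (Nat.le_mul_of_pos_left _ (by positivity))
  have hnc : ¬ ∃ N : Subgroup G, N.Normal ∧ Nat.card N = g₀ := by
    rintro ⟨N, hN, hcard⟩
    rcases hN.eq_bot_or_eq_top with h | h
    · rw [h] at hcard; simp at hcard; omega
    · rw [h, Subgroup.card_top, hG'] at hcard; omega
  obtain ⟨P⟩ := (inferInstance : Nonempty (Sylow 2 G))
  have h8 : ¬ 8 ∣ Nat.card G := by
    rw [hG']
    intro h
    have h2 : 2 ∣ g₀ := Nat.dvd_of_mul_dvd_mul_left (by norm_num : 0 < 4) h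
    exact (Nat.not_even_iff_odd.2 hg₀odd) (even_iff_two_dvd.2 h2)
  have hncomm : ¬ IsMulCommutative G := fun h => by
    obtain ⟨x, y, hxy⟩ := hna
    exact hxy (h.is_comm.comm x y)
  have hK := (Cfsg.Agent.S0992.result hncomm ⟨2 * g₀, by rw [hG']; ring⟩ h8 P).1
  have hPcard : Nat.card (P : Subgroup G) = 4 := hK.card_four
  have hone : ∀ s t : G, orderOf s = 2 → orderOf t = 2 → IsConj s t := by
    intro s t hs ht
    rcases Cfsg.Agent.S0202.result P hK with h | h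
    · have h1 := (Nat.card_eq_one_iff_unique.1 h).1
      have h2 := h1.elim ⟨ConjClasses.mk s, s, hs, rfl⟩ ⟨ConjClasses.mk t, t, ht, rfl⟩
      exact ConjClasses.mk_eq_mk_iff_isConj.1 (congrArg Subtype.val h2)
    · obtain ⟨N, hN, hcomp⟩ := (Cfsg.Agent.S0203.result P hK).1 h
      refine absurd ⟨N, hN, ?_⟩ hnc
      have := hcomp.card_mul
      rw [hPcard, hG'] at this
      omega
  obtain ⟨M, hM⟩ := exists_pModular Nat.prime_two
  obtain ⟨ζ₂, ζ₃, ζ₄, ε, hε, hn2, hn3, h23, h24, h34, hB, hval, hd2, hd3, hd4, heq⟩ :=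
    Cfsg.Agent.S0948.result M hM P hK hone
  obtain ⟨J, hJo⟩ := exists_prime_orderOf_dvd_card' (G := (P : Subgroup G)) 2 (by rw [hPcard]; norm_num)
  have hJo' : orderOf (J : G) = 2 := by rw [Subgroup.orderOf_coe, hJo]
  obtain ⟨hv2, hv3, hv4⟩ := hval (J : G) hJo'
  have hn4 : (ζ₄ : G → ℂ) ≠ fun _ => 1 := fun h => by
    rw [congrFun h] at hv4; norm_num at hv4
  have hform := Cfsg.Agent.S4479.result M hM g₀ hg₀odd hG' hnc P (J : G) J.2 hJo' ζ₂ ζ₃ ζ₄ 1 ε (-1)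
    hB ⟨hn2, hn3, hn4, h23, h24, h34⟩ ⟨Or.inl rfl, hε, Or.inr rfl⟩
    ⟨by rw [hv2]; norm_num, hv3, by rw [hv4]; norm_num⟩
  set x₁ := charDegree (ζ₂ : G → ℂ) with hx₁
  set x₂ := charDegree (ζ₃ : G → ℂ) with hx₂
  set x₃ := charDegree (ζ₄ : G → ℂ) with hx₃
  set cJ := Nat.card (Subgroup.centralizer ({(J : G)} : Set G)) with hcJ
  set cP := Nat.card (Subgroup.centralizer ((P : Subgroup G) : Set G)) with hcP
  have hsum : (1 : ℤ) + x₁ + ε * x₂ - x₃ = 0 := by
    have h := heq 1 (by rw [orderOf_one]; exact odd_one)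
    rw [← irr_charDegree_cast ζ₂, ← irr_charDegree_cast ζ₃, ← irr_charDegree_cast ζ₄] at h
    exact_mod_cast h
  have hd : ∀ ψ : IrrCharacter G, ¬ 2 ∣ charDegree (ψ : G → ℂ) →
      ∃ i ≤ 5, ∃ j ≤ 3, charDegree (ψ : G → ℂ) = 3 ^ i * l ^ j := by
    intro ψ h2
    have h1 := degree_dvd ψ
    rw [hG', show (4 : ℕ) = 2 ^ 2 by norm_num] at h1
    have h3 : charDegree (ψ : G → ℂ) ∣ g₀ :=
      (Nat.Coprime.pow_right 2 (Nat.prime_two.coprime_iff_not_dvd.2 h2).symm).dvd_of_dvd_mul_left h1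
    obtain ⟨u, v, hu, hv, huv⟩ := Nat.dvd_mul.1 h3
    obtain ⟨i, hi, rfl⟩ := (Nat.dvd_prime_pow Nat.prime_three).1 hu
    obtain ⟨j, hj, rfl⟩ := (Nat.dvd_prime_pow hl).1 hv
    exact ⟨i, hi.trans hα, j, hj.trans hβ3, huv.symm⟩
  obtain ⟨i₁, hi₁, j₁, hj₁, e₁⟩ := hd ζ₂ (by omega)
  obtain ⟨i₂, hi₂, j₂, hj₂, e₂⟩ := hd ζ₃ (by rcases hε with rfl | rfl <;> omega)
  obtain ⟨i₃, hi₃, j₃, hj₃, e₃⟩ := hd ζ₄ (by omega)
  rw [← hx₁] at e₁; rw [← hx₂] at e₂; rw [← hx₃] at e₃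
  have hp1 : 1 < x₁ := by
    have := degree_ne_one hna ζ₂ hn2
    rw [← hx₁] at this
    omega
  have hp3 : 1 < x₃ := by
    have := degree_ne_one hna ζ₄ hn4
    rw [← hx₃] at this
    omega
  have hx2ε : (x₂ : ℤ) + ε ≠ 0 := by rcases hε with rfl | rfl <;> omega
  have hcP0 : 0 < cP := Nat.card_pos
  -- the integral form of the order formula
  have hint : (Nat.card G : ℤ) * (((x₁ : ℤ) + 1) * ((x₂ : ℤ) + ε) * ((x₃ : ℤ) - 1)) * (cP : ℤ) ^ 2 =
      8 * ((x₁ : ℤ) * x₂ * x₃) * (cJ : ℤ) ^ 3 := by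
    have h1 : ((x₁ : ℚ) + 1) * ((x₂ : ℚ) + (ε : ℤ)) * ((x₃ : ℚ) + ((-1 : ℤ) : ℚ)) ≠ 0 := by
      refine mul_ne_zero (mul_ne_zero ?_ ?_) ?_
      · positivity
      · exact_mod_cast hx2ε
      · have : ((x₃ : ℤ) + (-1)) ≠ 0 := by omega
        exact_mod_cast this
    have h2 : (cP : ℚ) ≠ 0 := Nat.cast_ne_zero.2 hcP0.ne'
    rw [Int.cast_one] at hform
    have hform' : (Nat.card G : ℚ) = 8 * ((x₁ : ℚ) * x₂ * x₃) * (cJ : ℚ) ^ 3 /
        ((((x₁ : ℚ) + 1) * ((x₂ : ℚ) + (ε : ℤ)) * ((x₃ : ℚ) + ((-1 : ℤ) : ℚ))) * (cP : ℚ) ^ 2) := by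
      rw [hform, mul_div_assoc', div_mul_eq_mul_div, div_div]
    rw [eq_div_iff (mul_ne_zero h1 (pow_ne_zero _ h2))] at hform'
    push_cast at hform'
    have h3 : ((((Nat.card G : ℤ) * (((x₁ : ℤ) + 1) * ((x₂ : ℤ) + ε) * ((x₃ : ℤ) - 1)) * (cP : ℤ) ^ 2 : ℤ)) : ℚ)
        = (((8 * ((x₁ : ℤ) * x₂ * x₃) * (cJ : ℤ) ^ 3 : ℤ)) : ℚ) := by
      push_cast; linear_combination hform'
    exact_mod_cast h3
  have hprimes : ∀ r : ℕ, r.Prime → (r : ℤ) ∣ 8 * ((x₁ : ℤ) * x₂ * x₃) * (cJ : ℤ) ^ 3 →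
      r ∣ 2 * 3 * l := by
    intro r hr hdiv
    have h1 : r ∣ Nat.card G := by
      have h2 : r ∣ 8 * (x₁ * x₂ * x₃) * cJ ^ 3 := by exact_mod_cast hdiv
      rcases hr.dvd_mul.1 h2 with h | h
      · rcases hr.dvd_mul.1 h with h | h
        · exact ((hr.dvd_of_dvd_pow (show r ∣ 2 ^ 3 by simpa using h)).trans ⟨2 * g₀, by rw [hG']; ring⟩)
        · rcases hr.dvd_mul.1 h with h | h
          · rcases hr.dvd_mul.1 h with h | h
            · exact h.trans (hx₁ ▸ degree_dvd ζ₂)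
            · exact h.trans (hx₂ ▸ degree_dvd ζ₃)
          · exact h.trans (hx₃ ▸ degree_dvd ζ₄)
      · exact (hr.dvd_of_dvd_pow h).trans (Subgroup.card_subgroup_dvd_card _)
    rw [hG] at h1
    rcases hr.dvd_mul.1 h1 with h | h
    · rcases hr.dvd_mul.1 h with h | h
      · exact (hr.dvd_of_dvd_pow (show r ∣ 2 ^ 2 by simpa using h)).trans ⟨3 * l, by ring⟩
      · exact (hr.dvd_of_dvd_pow h).trans ⟨2 * l, by ring⟩
    · exact (hr.dvd_of_dvd_pow h).trans ⟨6, by ring⟩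
  have hbound : ∀ i j : ℕ, i ≤ 5 → j ≤ 3 → 3 ^ i * l ^ j + 1 < 2 ^ 18 := by
    intro i j hi hj
    have h1 := Nat.pow_le_pow_right (show 0 < 3 by norm_num) hi
    have h2 : l ^ j ≤ 7 ^ 3 := (Nat.pow_le_pow_left (show l ≤ 7 by omega) j).trans
      (Nat.pow_le_pow_right (by norm_num) hj)
    have := Nat.mul_le_mul h1 h2
    norm_num at this ⊢
    omega
  have hl7 : l ≠ 7 ∨ β ≤ 2 := by
    by_cases h : l = 7
    · right
      subst h
      have hb := prime_pow_le ρ hna hne hld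
      rw [Nat.factorization_eq_zero_of_not_dvd (show ¬ 7 ∣ Nat.factorial 4 by decide)] at hb
      by_contra hgt
      have h1 : 7 ^ 3 ≤ 7 ^ β := Nat.pow_le_pow_right (by norm_num) (by omega)
      norm_num at hb h1
      omega
    · exact Or.inl h
  -- smoothness of the neighbours
  have hsm1 : (x₁ + 1) ∣ (2 * 3 * l) ^ 18 := by
    refine smooth_dvd (by omega) (e₁ ▸ hbound i₁ j₁ hi₁ hj₁) fun r hr hdiv => hprimes r hr ?_
    rw [← hint]
    have h1 : (r : ℤ) ∣ (x₁ : ℤ) + 1 := by exact_mod_cast (Int.natCast_dvd_natCast.2 hdiv)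
    exact ((h1.mul_right _).mul_right _ |>.mul_left _).mul_right _
  have hsm3 : (x₃ - 1) ∣ (2 * 3 * l) ^ 18 := by
    refine smooth_dvd (by omega) (lt_of_le_of_lt (by omega) (e₃ ▸ hbound i₃ j₃ hi₃ hj₃))
      fun r hr hdiv => hprimes r hr ?_
    rw [← hint]
    have h1 : (r : ℤ) ∣ (x₃ : ℤ) - 1 := by
      have h2 := Int.natCast_dvd_natCast.2 hdiv
      rwa [Nat.cast_sub hp3.le, Nat.cast_one] at h2
    exact ((h1.mul_left _).mul_left _).mul_right _
  have hm1 : x₁ % 4 = 1 := by omega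
  have hm3 : x₃ % 4 = 3 := by omega
  obtain ⟨rfl, hx1v⟩ := smooth_next l (by rcases hl57 with rfl | rfl <;> simp) i₁ (Finset.mem_range.2 (by omega)) j₁ (Finset.mem_range.2 (by omega))
    (e₁ ▸ hm1) (e₁ ▸ hp1) (e₁ ▸ hsm1)
  rw [← e₁] at hx1v
  have hx3v : x₃ = 3 := e₃ ▸ smooth_prev i₃ (Finset.mem_range.2 (by omega)) j₃ (Finset.mem_range.2 (by omega)) (e₃ ▸ hm3) (e₃ ▸ hsm3)
  have hx2v : x₁ = 5 ∧ x₂ = 3 ∧ ε = -1 := by
    have hx2ne7 : x₂ ≠ 7 := by
      intro h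
      have h7 : 7 ∣ 3 ^ i₂ * 5 ^ j₂ := e₂ ▸ h ▸ dvd_rfl
      rcases (show Nat.Prime 7 by norm_num).dvd_mul.1 h7 with h' | h'
      · exact absurd ((show Nat.Prime 7 by norm_num).dvd_of_dvd_pow h') (by norm_num)
      · exact absurd ((show Nat.Prime 7 by norm_num).dvd_of_dvd_pow h') (by norm_num)
    rcases hε with rfl | rfl <;> omega
  obtain ⟨hx1', hx2v, hεv⟩ := hx2v
  -- a character of degree three
  obtain ⟨σ, hirrσ, hneσ⟩ := exists_rep ζ₄ (n := 3) (hx₃ ▸ hx3v) hn4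
  haveI := hirrσ
  have hα3 : α ≤ 3 := by
    obtain ⟨Q⟩ := (inferInstance : Nonempty (Sylow 3 G))
    have hb := abelian_bound σ hna hneσ (Q : Subgroup G) (three_group_abelian σ hna hneσ _ Q.2)
    rw [Q.card_eq_multiplicity] at hb
    have h1 : α ≤ (Nat.card G).factorization 3 :=
      (Nat.prime_three.pow_dvd_iff_le_factorization Nat.card_pos.ne').1 h3d
    by_contra hgt
    have h2 : 3 ^ 4 ≤ 3 ^ (Nat.card G).factorization 3 :=
      Nat.pow_le_pow_right (by norm_num) (by omega)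
    norm_num at hb h2
    omega
  have hβ2 : β ≤ 2 := by
    have hb := prime_pow_le σ hna hneσ hld
    rw [Nat.factorization_eq_zero_of_not_dvd (show ¬ 5 ∣ Nat.factorial 3 by decide)] at hb
    by_contra hgt
    have h2 : 5 ^ 3 ≤ 5 ^ β := Nat.pow_le_pow_right (by norm_num) (by omega)
    norm_num at hb h2
    omega
  have hle : Subgroup.centralizer ((P : Subgroup G) : Set G) ≤
      Subgroup.centralizer ({(J : G)} : Set G) :=
    Subgroup.centralizer_le (Set.singleton_subset_iff.2 J.2)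
  obtain ⟨w, hw⟩ := Subgroup.card_dvd_of_le hle
  rw [← hcJ, ← hcP] at hw
  have hPC : (P : Subgroup G) ≤ Subgroup.centralizer ((P : Subgroup G) : Set G) := by
    haveI := hK
    intro a ha
    exact Subgroup.mem_centralizer_iff.2 fun b hb =>
      congrArg Subtype.val (mul_comm_of_exponent_two hK.exponent_two
        (⟨b, hb⟩ : (P : Subgroup G)) ⟨a, ha⟩)
  obtain ⟨v, hv⟩ : 4 ∣ cP := hPcard ▸ Subgroup.card_dvd_of_le hPC
  have hN : Nat.card G = 15 * cP * w ^ 3 := by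
    rw [hεv, hx1', hx2v, hx3v, hw] at hint
    push_cast at hint
    have h2 : (0 : ℤ) < (cP : ℤ) := by exact_mod_cast hcP0
    have h3 : ((Nat.card G : ℤ) - 15 * cP * (w : ℤ) ^ 3) * (24 * (cP : ℤ) ^ 2) = 0 := by
      linear_combination hint
    have h4 := (mul_eq_zero.1 h3).resolve_right (by positivity)
    have h5 : (Nat.card G : ℤ) = ((15 * cP * w ^ 3 : ℕ) : ℤ) := by push_cast; linarith
    exact_mod_cast h5
  have hw1 : w = 1 := by
    have h1 : 15 * v * w ^ 3 = 3 ^ α * 5 ^ β := by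
      rw [hG, hv] at hN
      linarith
    have h2 : 15 * w ^ 3 ∣ 675 := by
      refine Dvd.dvd.trans ⟨v, ?_⟩ (Nat.mul_dvd_mul (pow_dvd_pow 3 hα3) (pow_dvd_pow 5 hβ2))
      rw [← h1]; ring
    have h3 : w ^ 3 ∣ 45 := Nat.dvd_of_mul_dvd_mul_left (by norm_num : 0 < 15) h2
    have h4 : w ≤ 3 := by
      by_contra hgt
      have := Nat.le_of_dvd (by norm_num) h3
      have : 4 ^ 3 ≤ w ^ 3 := Nat.pow_le_pow_left (by omega) 3
      omega
    interval_cases w <;> first | rfl | (norm_num at h3)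
  rw [hw1, mul_one] at hw
  have hCeq : Subgroup.centralizer ({(J : G)} : Set G) = Subgroup.centralizer ((P : Subgroup G) : Set G) :=
    (Subgroup.eq_of_le_of_card_ge hle (by rw [← hcJ, ← hcP, hw])).symm
  have hPJ : (P : Subgroup G) ≤ Subgroup.centralizer ({(J : G)} : Set G) := hCeq ▸ hPC
  refine Cfsg.Agent.S3278.result (J : G) hJo' (P : Subgroup G) hPJ hK ?_ ⟨fun a ha c => ?_⟩
  · exact fun h => P.not_dvd_index (h.trans (Subgroup.relIndex_dvd_index_of_le hPJ))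
  · rw [Subgroup.mem_subgroupOf] at ha ⊢
    have hc : (c : G) ∈ Subgroup.centralizer ((P : Subgroup G) : Set G) := hCeq ▸ c.2
    have e : ((c * a * c⁻¹ : _) : G) = (a : G) := by
      rw [Subgroup.coe_mul, Subgroup.coe_mul, Subgroup.coe_inv,
        ← Subgroup.mem_centralizer_iff.1 hc _ ha, mul_inv_cancel_right]
    rw [e]
    exact ha

/-- Simple groups of order `4 p^a q^b` with `a ≤ 2`. -/
theorem four_case (hna : ∃ a b : G, a * b ≠ b * a) {p q a b : ℕ} (hp : p.Prime) (hq : q.Prime)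
    (hpq : p ≠ q) (ha : a ≤ 2) (hG : Nat.card G = 4 * p ^ a * q ^ b) :
    Nonempty (G ≃* alternatingGroup (Fin 5)) := by
  classical
  haveI := Fintype.ofFinite G
  haveI : Nontrivial G := by
    obtain ⟨x, y, hxy⟩ := hna
    exact ⟨x * y, y * x, hxy⟩
  haveI : Fact (Nat.Prime 2) := ⟨Nat.prime_two⟩
  have hp2 : p ≠ 2 := fun h => by
    subst h
    exact no_two_primes hna (a := a + 2) (b := b) Nat.prime_two hq (by rw [hG]; ring)
  have hq2 : q ≠ 2 := fun h => by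
    subst h
    exact no_two_primes hna (a := b + 2) (b := a) Nat.prime_two hp (by rw [hG]; ring)
  have ha0 : a ≠ 0 := fun h => by
    subst h
    exact no_two_primes hna (a := 2) (b := b) Nat.prime_two hq (by rw [hG]; ring)
  have hb0 : b ≠ 0 := fun h => by
    subst h
    exact no_two_primes hna (a := 2) (b := a) Nat.prime_two hp (by rw [hG]; ring)
  have hodd : Odd (p ^ a * q ^ b) :=
    ((hp.odd_of_ne_two hp2).pow).mul ((hq.odd_of_ne_two hq2).pow)
  have h8 : ¬ 8 ∣ Nat.card G := by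
    rw [hG, mul_assoc]
    intro h
    have h2 : 2 ∣ p ^ a * q ^ b := Nat.dvd_of_mul_dvd_mul_left (by norm_num : 0 < 4) h
    exact (Nat.not_even_iff_odd.2 hodd) (even_iff_two_dvd.2 h2)
  have hncomm : ¬ IsMulCommutative G := fun h => by
    obtain ⟨x, y, hxy⟩ := hna
    exact hxy (h.is_comm.comm x y)
  obtain ⟨T⟩ := (inferInstance : Nonempty (Sylow 2 G))
  obtain ⟨hT, h3i⟩ := Cfsg.Agent.S0992.result hncomm
    ⟨2 * (p ^ a * q ^ b), by rw [hG]; ring⟩ h8 T
  have h3 : 3 ∣ Nat.card G := by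
    refine Dvd.dvd.trans ?_ (Subgroup.card_subgroup_dvd_card
      (Subgroup.normalizer ((T : Subgroup G) : Set G)))
    rw [← h3i]
    exact Subgroup.relIndex_dvd_card _ _
  have hpq3 : p = 3 ∨ q = 3 := by
    rw [hG] at h3
    have hp3' := Nat.prime_three
    rcases hp3'.dvd_mul.1 h3 with h | h
    · rcases hp3'.dvd_mul.1 h with h | h
      · norm_num at h
      · exact Or.inl ((Nat.prime_dvd_prime_iff_eq hp3' hp).1 (hp3'.dvd_of_dvd_pow h)).symm
    · exact Or.inr ((Nat.prime_dvd_prime_iff_eq hp3' hq).1 (hp3'.dvd_of_dvd_pow h)).symm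
  obtain ⟨-, χ, hχne, k, hk⟩ := Cfsg.Agent.S4500.result p q 2 a b 2 hp hq Nat.prime_two hpq hp2 hq2
    ha (by rw [hG]; ring)
  have hdvd := degree_dvd χ
  have hk2 : k ≤ 2 := by
    by_contra hgt
    exact h8 ((show 2 ^ 3 ∣ 2 ^ k from pow_dvd_pow 2 (by omega)).trans (hk ▸ hdvd))
  interval_cases k
  · exact absurd (by simpa using hk) (degree_ne_one hna χ hχne)
  · obtain ⟨ρ, hirr, hne⟩ := exists_rep χ (n := 2) (by simpa using hk) hχne
    exact (no_klein_degree_two ρ hna hne _ hT).elim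
  · rcases hpq3 with rfl | rfl
    · exact four_main hna χ (by simpa using hk) hχne hq (by
        have := hq.two_le; omega) hb0 hG
    · exact four_main hna χ (α := b) (β := a) (by simpa using hk) hχne hp (by
        have := hp.two_le; omega) ha0 (by rw [hG]; ring)

end CfsgLib.TwoPrimeBound
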