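import Cfsg.Agent.Lib.TwoPrimeBound.Small
import Cfsg.Agent.Lib.CharTheory.Degree
import Cfsg.Agent.Lib.CharTheory.Burnside
import Cfsg.Agent.S4503
import Cfsg.Agent.S0899

/-!
# Prime divisors of simple linear groups of small degree
-/

namespace CfsgLib.TwoPrimeBound

open Cfsg CfsgLib.CharTheory CfsgLib.Blocks

variable {G : Type*} [Group G] [Finite G] [IsSimpleGroup G]

theorem isCyclic_or_nonabelian_false (hna : ∃ a b : G, a * b ≠ b * a) : ¬ IsCyclic G := fun h => by
  haveI := h
  obtain ⟨a, b, hab⟩ := hna
  letI := IsCyclic.commGroup (α := G)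
  exact hab (mul_comm a b)

/-- A faithful irreducible representation from a non-trivial irreducible character. -/
theorem exists_rep (χ : IrrCharacter G) {n : ℕ} (hn : charDegree (χ : G → ℂ) = n)
    (hne : (χ : G → ℂ) ≠ fun _ => 1) :
    ∃ ρ : Representation ℂ G (Fin n → ℂ), ρ.IsIrreducible ∧ ρ.character ≠ fun _ => 1 := by
  haveI := Fintype.ofFinite G
  obtain ⟨m, ρ, hirr, hρ⟩ := χ.2
  have h1 := irr_charDegree_cast χ
  rw [hn, ← hρ, Representation.char_one, Module.finrank_fin_fun] at h1
  obtain rfl : n = m := by exact_mod_cast h1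
  exact ⟨ρ, hirr, hρ ▸ hne⟩

/-- Large primes do not occur in degree `n`. -/
theorem prime_le {n : ℕ} (ρ : Representation ℂ G (Fin n → ℂ)) [ρ.IsIrreducible]
    (hna : ∃ a b : G, a * b ≠ b * a) (hne : ρ.character ≠ fun _ => 1) {l : ℕ} (hl : l.Prime)
    (hld : l ∣ Nat.card G) (hbig : n + 1 < l) : l ≤ 2 * n + 1 := by
  classical
  haveI : Fact l.Prime := ⟨hl⟩
  by_contra hgt
  push Not at hgt
  have hinj := rep_injective ρ hne
  have hK : ∀ K : Subgroup G, ¬ l ^ 2 ∣ Nat.card K → ∀ Q : Sylow l K, (Q : Subgroup K).Normal := by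
    intro K hK Q
    by_cases hlK : l ∣ Nat.card K
    · by_contra hQn
      have hnn : ∀ H : Subgroup K, H.Normal → Nat.card H ≠ l := by
        intro H hH hcard
        have hQ : Nat.card (Q : Subgroup K) = l := by
          rw [Q.card_eq_multiplicity]
          have h1 : (Nat.card K).factorization l = 1 := by
            refine le_antisymm (Nat.lt_succ_iff.1 (Nat.lt_of_not_le fun h2 => hK ?_))
              (hl.factorization_pos_of_dvd Nat.card_pos.ne' hlK)
            exact (hl.pow_dvd_iff_le_factorization Nat.card_pos.ne').2 h2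
          rw [h1, pow_one]
        have hidx : ¬ l ∣ H.index := by
          intro hd
          refine hK ?_
          rw [← H.card_mul_index, hcard, sq]
          exact Nat.mul_dvd_mul_left l hd
        let H' : Sylow l K := (IsPGroup.of_card (n := 1) (by rw [hcard, pow_one])).toSylow hidx
        haveI : (H' : Subgroup K).Normal := hH
        haveI := Sylow.unique_of_normal H' ‹_›
        refine hQn ?_
        rw [Subsingleton.elim Q H']
        exact hH
      have h1 := Cfsg.Agent.S4503.result l hl hlK hK hnn (fun x : K => ρ.character (x : G))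
        (isCharacter_restrict (⟨n, ρ, rfl⟩ : IsCharacter G ρ.character) K) (fun g hg => by
          refine Subtype.ext (hinj ?_)
          rw [OneMemClass.coe_one, map_one]
          exact rep_apply_eq_one_of_char_eq ρ (by simpa using hg))
      have h2 : charDegree (fun x : K => ρ.character (x : G)) = n := by
        simp [charDegree, Representation.char_one]
      omega
    · have hQ : (Q : Subgroup K) = ⊥ := by
        refine Subgroup.card_eq_one.1 ?_
        rw [Q.card_eq_multiplicity, Nat.factorization_eq_zero_of_not_dvd hlK, pow_zero]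
      rw [hQ]; infer_instance
  obtain ⟨P⟩ := (inferInstance : Nonempty (Sylow l G))
  have hPn := Cfsg.Agent.S0899.result n ρ hinj l (Or.inr ⟨hbig, hK⟩) P
  rcases hPn.eq_bot_or_eq_top with h | h
  · exact P.ne_bot_of_dvd_card hld h
  · have hG : IsPGroup l G := by
      intro g
      obtain ⟨k, hk⟩ := P.2 ⟨g, h ▸ Subgroup.mem_top g⟩
      exact ⟨k, congrArg Subtype.val hk⟩
    haveI := hG.center_nontrivial
    obtain ⟨z, hz⟩ := exists_ne (1 : Subgroup.center G)
    exact hz (Subtype.ext (central_eq_one hna fun g => (Subgroup.mem_center_iff.1 z.2 g).symm))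

/-- The exponent of a prime in the group order is bounded through abelian subgroups. -/
theorem prime_pow_le {n : ℕ} (ρ : Representation ℂ G (Fin n → ℂ)) [ρ.IsIrreducible]
    (hna : ∃ a b : G, a * b ≠ b * a) (hne : ρ.character ≠ fun _ => 1) {l e : ℕ} [Fact l.Prime]
    (hd : l ^ e ∣ Nat.card G) : l ^ e ≤ l ^ (n.factorial.factorization l) * 6 ^ (n - 1) := by
  obtain ⟨P⟩ := (inferInstance : Nonempty (Sylow l G))
  refine le_trans (Nat.le_of_dvd Nat.card_pos ?_) (pgroup_bound ρ hna hne (P : Subgroup G) P.2)
  rw [P.card_eq_multiplicity]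
  exact pow_dvd_pow l ((Fact.out : l.Prime).pow_dvd_iff_le_factorization Nat.card_pos.ne' |>.1 hd)

end CfsgLib.TwoPrimeBound
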