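import Mathlib

/-!
# Elements with concentrated eigenvalues in unitary representations

If `U` is a unitary representation and the eigenvalues of `U x` different from `ω` all have distance
less than one from `ω`, then the `ω`-eigenspace of `U x` is invariant under every conjugate of `x`.
-/

namespace CfsgLib.TwoPrimeBound

open scoped InnerProductSpace ComplexConjugate

universe u v

variable {G : Type u} [Group G] [Finite G] {E : Type v} [NormedAddCommGroup E]
  [InnerProductSpace ℂ E] [FiniteDimensional ℂ E] (U : Representation ℂ G E) (x : G) (ω : ℂ)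

/-- The eigenspace of the conjugate of `x` by `g`. -/
def fixSp (g : G) : Submodule ℂ E := Module.End.eigenspace (U (g * x * g⁻¹)) ω

theorem mem_fixSp {g : G} {v : E} : v ∈ fixSp U x ω g ↔ U (g * x * g⁻¹) v = ω • v :=
  Module.End.mem_eigenspace_iff

theorem apply_mem {a g : G} {v : E} (hv : v ∈ fixSp U x ω g) :
    U a v ∈ fixSp U x ω (a * g) := by
  rw [mem_fixSp] at hv ⊢
  rw [show U (a * g * x * (a * g)⁻¹) (U a v) = U (a * g * x * (a * g)⁻¹ * a) v by
      rw [map_mul U (a * g * x * (a * g)⁻¹) a, Module.End.mul_apply],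
    show a * g * x * (a * g)⁻¹ * a = a * (g * x * g⁻¹) by group, map_mul U a (g * x * g⁻¹),
    Module.End.mul_apply, hv, map_smul]

theorem apply_inv_apply (a : G) (v : E) : U a (U a⁻¹ v) = v := by
  rw [← Module.End.mul_apply, ← map_mul, mul_inv_cancel, map_one, Module.End.one_apply]

theorem finrank_fixSp (g : G) :
    Module.finrank ℂ (fixSp U x ω g) = Module.finrank ℂ (fixSp U x ω 1) := by
  have e : (fixSp U x ω 1).map (U g) = fixSp U x ω g := by
    refine le_antisymm (Submodule.map_le_iff_le_comap.2 fun v hv => ?_) fun v hv => ?_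
    · simpa using apply_mem U x ω (a := g) hv
    · exact ⟨U g⁻¹ v, by simpa using apply_mem U x ω (a := g⁻¹) hv, apply_inv_apply U g v⟩
  rw [← e]
  exact ((Submodule.equivMapOfInjective (U g)
    (Function.LeftInverse.injective (g := U g⁻¹) fun v => by
      simpa using apply_inv_apply U g⁻¹ v) (fixSp U x ω 1)).finrank_eq).symm

variable {U x ω}

theorem inner_map (hU : ∀ g v, ‖U g v‖ = ‖v‖) (g : G) (v w : E) :
    ⟪U g v, U g w⟫_ℂ = ⟪v, w⟫_ℂ :=
  (LinearIsometry.mk (U g) (hU g)).inner_map_map v w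

/-- The distance vector to a fixed space. -/
noncomputable def resid (U : Representation ℂ G E) (x : G) (ω : ℂ) (g : G) (v : E) : E :=
  v - (fixSp U x ω g).starProjection v

theorem resid_mem (g : G) (v : E) : resid U x ω g v ∈ (fixSp U x ω g)ᗮ :=
  Submodule.sub_starProjection_mem_orthogonal v

theorem norm_resid_le (g : G) (v w : E) (hw : w ∈ fixSp U x ω g) :
    ‖resid U x ω g v‖ ≤ ‖v - w‖ := by
  rw [resid, Submodule.starProjection_minimal]
  exact ciInf_le ⟨0, by rintro _ ⟨y, rfl⟩; exact norm_nonneg _⟩ (⟨w, hw⟩ : fixSp U x ω g)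

theorem norm_resid_le_self (g : G) (v : E) : ‖resid U x ω g v‖ ≤ ‖v‖ := by
  simpa using norm_resid_le g v 0 (Submodule.zero_mem _)

theorem resid_eq_self {g : G} {v : E} (hv : v ∈ (fixSp U x ω g)ᗮ) : resid U x ω g v = v := by
  rw [resid, Submodule.eq_starProjection_of_mem_orthogonal (Submodule.zero_mem _)
    (show v - 0 ∈ (fixSp U x ω g)ᗮ by rwa [sub_zero]), sub_zero]

theorem gap_conj (hU : ∀ g v, ‖U g v‖ = ‖v‖) {r : ℝ}
    (hr : ∀ w ∈ (fixSp U x ω 1)ᗮ, ‖U x w - ω • w‖ ≤ r * ‖w‖) {g : G} {w : E}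
    (hw : w ∈ (fixSp U x ω g)ᗮ) : ‖U (g * x * g⁻¹) w - ω • w‖ ≤ r * ‖w‖ := by
  have h1 : U g⁻¹ w ∈ (fixSp U x ω 1)ᗮ := by
    rw [Submodule.mem_orthogonal]
    intro y hy
    have h2 := apply_mem U x ω (a := g) hy
    rw [mul_one] at h2
    rw [← inner_map hU g, apply_inv_apply U g w]
    exact (Submodule.mem_orthogonal _ _).1 hw _ h2
  have h3 := hr _ h1
  rw [hU] at h3
  refine le_of_eq_of_le ?_ h3
  rw [← hU g (U x (U g⁻¹ w) - ω • U g⁻¹ w), map_sub, map_smul, apply_inv_apply U g w]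
  simp only [map_mul, Module.End.mul_apply]

/-- Conjugating moves the distance to a fixed space by a factor at most `r`. -/
theorem resid_step (hU : ∀ g v, ‖U g v‖ = ‖v‖) (hω : ‖ω‖ = 1) {r : ℝ}
    (hr : ∀ w ∈ (fixSp U x ω 1)ᗮ, ‖U x w - ω • w‖ ≤ r * ‖w‖) {g : G} {v : E}
    (hv : v ∈ fixSp U x ω 1) :
    ‖resid U x ω (g * x * g⁻¹) v‖ ≤ r * ‖resid U x ω g v‖ := by
  have h1 : ω⁻¹ • U (g * x * g⁻¹) v ∈ fixSp U x ω (g * x * g⁻¹) := by
    have := apply_mem U x ω (a := g * x * g⁻¹) hv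
    rw [mul_one] at this
    exact Submodule.smul_mem _ _ this
  refine (norm_resid_le _ v _ h1).trans ?_
  have hω0 : ω ≠ 0 := fun h => by simp [h] at hω
  have e : v - ω⁻¹ • U (g * x * g⁻¹) v = -(ω⁻¹ • (U (g * x * g⁻¹) v - ω • v)) := by
    rw [smul_sub, smul_smul, inv_mul_cancel₀ hω0, one_smul, neg_sub]
  rw [e, norm_neg, norm_smul, norm_inv, hω, inv_one, one_mul]
  set a := (fixSp U x ω g).starProjection v with ha
  have h2 : U (g * x * g⁻¹) a = ω • a :=
    (mem_fixSp U x ω).1 (Submodule.starProjection_apply_mem _ _)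
  have e2 : U (g * x * g⁻¹) v - ω • v =
      U (g * x * g⁻¹) (resid U x ω g v) - ω • resid U x ω g v := by
    rw [resid, ← ha, map_sub, smul_sub, h2]; abel
  rw [e2]
  exact gap_conj hU hr (resid_mem g v)

/-- The projection to a fixed space preserves every subspace invariant under the element. -/
theorem projection_mem (hU : ∀ g v, ‖U g v‖ = ‖v‖) (hω : ‖ω‖ = 1) {p : ℕ} (hp : 0 < p)
    (hxp : x ^ p = 1) (hωp : ω ^ p = 1) {h : G} {W : Submodule ℂ E}
    (hW : ∀ v ∈ W, U (h * x * h⁻¹) v ∈ W) {v : E} (hv : v ∈ W) :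
    (fixSp U x ω h).starProjection v ∈ W := by
  set y := h * x * h⁻¹ with hy
  set f : ℕ → E := fun s => ω⁻¹ ^ s • U (y ^ s) v with hf
  have hω0 : ω ≠ 0 := fun h => by simp [h] at hω
  have hyp : y ^ p = 1 := by rw [hy, conj_pow, hxp, mul_one, mul_inv_cancel]
  have hfW : ∀ s, U (y ^ s) v ∈ W := by
    intro s
    induction s with
    | zero => simpa using hv
    | succ s ih => rw [pow_succ', map_mul, Module.End.mul_apply]; exact hW _ ih
  have hstep : ∀ s, U y (f s) = ω • f (s + 1) := by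
    intro s
    simp only [hf]
    rw [map_smul, smul_smul, ← Module.End.mul_apply, ← map_mul, ← pow_succ', pow_succ' ω⁻¹,
      ← mul_assoc, mul_inv_cancel₀ hω0, one_mul]
  have hper : f p = f 0 := by simp only [hf, hyp, inv_pow, hωp, pow_zero, inv_one]
  set a := (p : ℂ)⁻¹ • ∑ s ∈ Finset.range p, f s with ha
  have hafix : a ∈ fixSp U x ω h := by
    rw [mem_fixSp, ← hy, ha, map_smul, map_sum, smul_comm ω, Finset.smul_sum (r := ω)]
    congr 1
    rw [Finset.sum_congr rfl fun s _ => hstep s, ← Finset.smul_sum, ← Finset.smul_sum]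
    congr 1
    obtain ⟨k, rfl⟩ : ∃ k, p = k + 1 := ⟨p - 1, by omega⟩
    rw [Finset.sum_range_succ, hper, Finset.sum_range_succ' (fun s => f s)]
  have horth : v - a ∈ (fixSp U x ω h)ᗮ := by
    rw [Submodule.mem_orthogonal]
    intro w hw
    have hws : ∀ s : ℕ, U (y ^ s) w = ω ^ s • w := by
      intro s
      induction s with
      | zero => simp
      | succ s ih =>
        rw [pow_succ', map_mul, Module.End.mul_apply, ih, map_smul,
          show U y w = ω • w from (mem_fixSp U x ω).1 hw, smul_smul, pow_succ ω]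
    have hwf : ∀ s, ⟪w, f s⟫_ℂ = ⟪w, v⟫_ℂ := by
      intro s
      have h1 := inner_map hU (y ^ s) w v
      rw [hws, inner_smul_left] at h1
      simp only [hf, inner_smul_right]
      rw [← h1]
      have : conj (ω ^ s) = (ω⁻¹) ^ s := by
        rw [map_pow, Complex.inv_eq_conj hω]
      rw [this]
    rw [inner_sub_right, ha, inner_smul_right, inner_sum, Finset.sum_congr rfl fun s _ => hwf s,
      Finset.sum_const, Finset.card_range, nsmul_eq_mul, ← mul_assoc,
      inv_mul_cancel₀ (Nat.cast_ne_zero.2 hp.ne'), one_mul, sub_self]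
  rw [Submodule.eq_starProjection_of_mem_orthogonal hafix horth, ha]
  exact Submodule.smul_mem _ _ (Submodule.sum_mem _ fun s _ => Submodule.smul_mem _ _ (hfW s))

/-- **Blichfeldt**: the eigenspace is invariant under all conjugates of `x`. -/
theorem fixSp_invariant (hU : ∀ g v, ‖U g v‖ = ‖v‖) (hω : ‖ω‖ = 1) {p : ℕ} (hp : 0 < p)
    (hxp : x ^ p = 1) (hωp : ω ^ p = 1) {r : ℝ} (hr0 : 0 ≤ r) (hr1 : r < 1)
    (hr : ∀ w ∈ (fixSp U x ω 1)ᗮ, ‖U x w - ω • w‖ ≤ r * ‖w‖) (g : G) {v : E}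
    (hv : v ∈ fixSp U x ω 1) : U (g * x * g⁻¹) v ∈ fixSp U x ω 1 := by
  classical
  haveI := Fintype.ofFinite G
  let b := stdOrthonormalBasis ℂ (fixSp U x ω 1)
  let D : G → ℝ := fun g => ∑ i, ‖resid U x ω g (b i : E)‖ ^ 2
  have hD0 : ∀ g, 0 ≤ D g := fun g => Finset.sum_nonneg fun i _ => sq_nonneg _
  have hstep : ∀ g, D (g * x * g⁻¹) ≤ r ^ 2 * D g := by
    intro g
    simp only [D, Finset.mul_sum, ← mul_pow]
    exact Finset.sum_le_sum fun i _ =>
      pow_le_pow_left₀ (norm_nonneg _) (resid_step hU hω hr (b i).2) 2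
  have hzero : ∀ g, D g = 0 → fixSp U x ω 1 ≤ fixSp U x ω g := by
    intro g h0 v hv
    have hb : ∀ i, (b i : E) ∈ fixSp U x ω g := by
      intro i
      have h1 := (Finset.sum_eq_zero_iff_of_nonneg fun i _ =>
        sq_nonneg ‖resid U x ω g (b i : E)‖).1 h0 i (Finset.mem_univ i)
      have h2 : resid U x ω g (b i : E) = 0 := norm_eq_zero.1 (pow_eq_zero_iff two_ne_zero |>.1 h1)
      rw [resid, sub_eq_zero] at h2
      rw [h2]
      exact Submodule.starProjection_apply_mem _ _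
    have := congrArg Subtype.val (b.sum_repr ⟨v, hv⟩)
    simp only [Submodule.coe_sum, Submodule.coe_smul] at this
    exact (show v = _ from this.symm) ▸
      Submodule.sum_mem _ fun i _ => Submodule.smul_mem _ _ (hb i)
  have heq : ∀ g, fixSp U x ω 1 ≤ fixSp U x ω g → fixSp U x ω g = fixSp U x ω 1 := fun g h =>
    (Submodule.eq_of_le_of_finrank_eq h (finrank_fixSp U x ω g).symm).symm
  have hinv : ∀ g, fixSp U x ω 1 ≤ fixSp U x ω (g * x * g⁻¹) →
      ∀ v ∈ fixSp U x ω 1, U (g * x * g⁻¹) v ∈ fixSp U x ω 1 := by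
    intro g h v hv
    have := apply_mem U x ω (a := g * x * g⁻¹) hv
    rwa [mul_one, heq _ h] at this
  suffices H : ∀ g, fixSp U x ω 1 ≤ fixSp U x ω (g * x * g⁻¹) from hinv g (H g) v hv
  intro g
  by_contra hg
  obtain ⟨g₀, hg₀, hmin⟩ := (Finset.univ.filter fun g : G =>
      ¬ fixSp U x ω 1 ≤ fixSp U x ω (g * x * g⁻¹)).exists_min_image (fun g => D (g * x * g⁻¹))
      ⟨g, Finset.mem_filter.2 ⟨Finset.mem_univ _, hg⟩⟩
  have hg₀' := (Finset.mem_filter.1 hg₀).2
  set h := g₀ * x * g₀⁻¹ with hh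
  have hDh : 0 < D h := (hD0 h).lt_of_ne fun e => hg₀' (hzero _ e.symm)
  have hnext : fixSp U x ω 1 ≤ fixSp U x ω (h * x * h⁻¹) := by
    by_contra hn
    have h1 := hmin h (Finset.mem_filter.2 ⟨Finset.mem_univ _, hn⟩)
    replace h1 : D h ≤ D (h * x * h⁻¹) := h1
    have h2 := hstep h
    have h3 : r ^ 2 < 1 := by nlinarith
    nlinarith
  refine hg₀' fun v hv => ?_
  have hPv := projection_mem hU hω hp hxp hωp (hinv h hnext) hv
  have hw : resid U x ω h v ∈ fixSp U x ω 1 := Submodule.sub_mem _ hv hPv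
  have h4 := resid_step hU hω hr (g := g₀) hw
  rw [← hh, resid_eq_self (resid_mem h v)] at h4
  have h5 := norm_resid_le_self (U := U) (x := x) (ω := ω) g₀ (resid U x ω h v)
  have h6 : ‖resid U x ω h v‖ = 0 := by nlinarith [norm_nonneg (resid U x ω h v)]
  have h7 := norm_eq_zero.1 h6
  rw [resid, sub_eq_zero] at h7
  rw [h7]
  exact Submodule.starProjection_apply_mem _ _

end CfsgLib.TwoPrimeBound
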