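import Cfsg.Agent.Lib.TwoPrimeBound.Gap
import Cfsg.Agent.Lib.Blocks.Principal
import Cfsg.Agent.Lib.Blocks.Orth
import Cfsg.Agent.Lib.CharTheory.Burnside

/-!
# Unitarisation, eigenvalue support and pigeonhole
-/

namespace CfsgLib.TwoPrimeBound

open Cfsg CfsgLib.CharTheory CfsgLib.Blocks
open scoped InnerProductSpace ComplexConjugate

universe u

variable {G : Type u} [Group G] [Finite G]

/-- The embedding of the coordinate space given by all translates. -/
noncomputable def transEmb [Fintype G] {n : ℕ} (ρ : Representation ℂ G (Fin n → ℂ)) :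
    (Fin n → ℂ) →ₗ[ℂ] EuclideanSpace ℂ (G × Fin n) where
  toFun v := WithLp.toLp 2 fun gi => ρ gi.1 v gi.2
  map_add' v w := by ext gi; simp
  map_smul' c v := by ext gi; simp

theorem transEmb_injective [Fintype G] {n : ℕ} (ρ : Representation ℂ G (Fin n → ℂ)) :
    Function.Injective (transEmb ρ) := by
  intro v w h
  funext i
  have h1 := congrArg (fun z : EuclideanSpace ℂ (G × Fin n) => z (1, i)) h
  simpa [transEmb] using h1

theorem norm_transEmb [Fintype G] {n : ℕ} (ρ : Representation ℂ G (Fin n → ℂ)) (g : G)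
    (v : Fin n → ℂ) : ‖transEmb ρ (ρ g v)‖ = ‖transEmb ρ v‖ := by
  rw [EuclideanSpace.norm_eq, EuclideanSpace.norm_eq]
  congr 1
  refine Fintype.sum_equiv ((Equiv.mulRight g).prodCongr (Equiv.refl (Fin n))) _ _ fun gi => ?_
  simp [transEmb, map_mul]

/-- A unitary model of a representation. -/
theorem exists_unitary [Fintype G] {n : ℕ} (ρ : Representation ℂ G (Fin n → ℂ)) :
    ∃ (N : ℕ) (e : (Fin n → ℂ) ≃ₗ[ℂ] EuclideanSpace ℂ (Fin N))
      (U : Representation ℂ G (EuclideanSpace ℂ (Fin N))),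
      (∀ g w, ‖U g w‖ = ‖w‖) ∧ ∀ g v, U g (e v) = e (ρ g v) := by
  set e₀ := LinearEquiv.ofInjective (transEmb ρ) (transEmb_injective ρ) with he
  let b := stdOrthonormalBasis ℂ (LinearMap.range (transEmb ρ))
  set e := e₀.trans b.repr.toLinearEquiv with he'
  refine ⟨_, e,
    { toFun := fun g => e.conj (ρ g)
      map_one' := by simp [Module.End.one_eq_id]
      map_mul' := fun a b => LinearMap.ext fun w => by
        simp [LinearEquiv.conj_apply, map_mul] }, fun g w => ?_, fun g v => ?_⟩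
  · obtain ⟨v, rfl⟩ := e.surjective w
    show ‖e.conj (ρ g) (e v)‖ = _
    rw [LinearEquiv.conj_apply, LinearMap.comp_apply, LinearMap.comp_apply,
      LinearEquiv.coe_coe, LinearEquiv.coe_coe, LinearEquiv.symm_apply_apply]
    show ‖b.repr (e₀ (ρ g v))‖ = ‖b.repr (e₀ v)‖
    rw [LinearIsometryEquiv.norm_map, LinearIsometryEquiv.norm_map, Submodule.coe_norm,
      Submodule.coe_norm]
    simpa [he] using norm_transEmb ρ g v
  · show e.conj (ρ g) (e v) = _
    simp [LinearEquiv.conj_apply]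

/-- The spectral estimate off an eigenspace. -/
theorem gap_of_decomp {E : Type*} [NormedAddCommGroup E] [InnerProductSpace ℂ E]
    [FiniteDimensional ℂ E] {U : Representation ℂ G E} {x : G} {ω : ℂ}
    (hU : ∀ g v, ‖U g v‖ = ‖v‖) {r : ℝ} (hr0 : 0 ≤ r) {ι : Type*} [Fintype ι] {μ : ι → ℂ}
    (hμ : ∀ i, ‖μ i‖ = 1) (hrμ : ∀ i, μ i ≠ ω → ‖μ i - ω‖ ≤ r)
    (hdec : ∀ w : E, ∃ f : ι → E, w = ∑ i, f i ∧ ∀ i, U x (f i) = μ i • f i) :
    ∀ w ∈ (fixSp U x ω 1)ᗮ, ‖U x w - ω • w‖ ≤ r * ‖w‖ := by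
  classical
  intro w hw
  obtain ⟨f, hsum, hfe⟩ := hdec w
  have horth : ∀ i j, μ i ≠ μ j → ⟪f i, f j⟫_ℂ = 0 := by
    intro i j hij
    have h1 := inner_map hU x (f i) (f j)
    rw [hfe, hfe, inner_smul_left, inner_smul_right, ← mul_assoc] at h1
    have h2 : conj (μ i) = (μ i)⁻¹ := (Complex.inv_eq_conj (hμ i)).symm
    rw [h2] at h1
    have h3 : (μ i)⁻¹ * μ j ≠ 1 := fun h =>
      hij (inv_injective (eq_inv_of_mul_eq_one_left h)).symm.symm
    by_contra h0
    exact h3 (mul_eq_right₀ h0 |>.1 h1)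
  -- the component in the eigenspacwanishes
  set a := ∑ i ∈ Finset.univ.filter (fun i => μ i = ω), f i with ha
  set b := ∑ i ∈ Finset.univ.filter (fun i => ¬ μ i = ω), f i with hb
  have hab : w = a + b := by
    rw [hsum, ha, hb, Finset.sum_filter_add_sum_filter_not]
  have haF : a ∈ fixSp U x ω 1 := Submodule.sum_mem _ fun i hi => by
    rw [mem_fixSp, one_mul, inv_one, mul_one, hfe, (Finset.mem_filter.1 hi).2]
  have hab0 : ⟪a, b⟫_ℂ = 0 := by
    rw [ha, hb, sum_inner]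
    refine Finset.sum_eq_zero fun i hi => ?_
    rw [inner_sum]
    exact Finset.sum_eq_zero fun j hj => horth i j (by
      rw [(Finset.mem_filter.1 hi).2]; exact fun h => (Finset.mem_filter.1 hj).2 h.symm)
  have ha0 : a = 0 := by
    have h1 := (Submodule.mem_orthogonal _ _).1 hw a haF
    rw [hab, inner_add_right, hab0, add_zero] at h1
    exact inner_self_eq_zero.1 h1
  have hev : w = b := by rw [hab, ha0, zero_add]
  -- group the components by eigenvalue
  set T := (Finset.univ.filter (fun i => ¬ μ i = ω)).image μ with hT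
  set F : ℂ → E := fun t =>
    ∑ i ∈ Finset.univ.filter (fun i => μ i = t), f i with hF
  have hbF : b = ∑ t ∈ T, F t := by
    rw [hb, ← Finset.sum_fiberwise_of_maps_to (g := μ) (t := T)
      (fun i hi => Finset.mem_image_of_mem μ hi)]
    refine Finset.sum_congr rfl fun t ht => Finset.sum_congr ?_ fun _ _ => rfl
    rw [Finset.filter_filter]
    refine Finset.filter_congr fun i _ => ⟨fun h => h.2, fun h => ⟨?_, h⟩⟩
    obtain ⟨j, hj, rfl⟩ := Finset.mem_image.1 ht
    rw [h]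
    exact (Finset.mem_filter.1 hj).2
  have hFe : ∀ t, U x (F t) = t • F t := fun t => by
    rw [hF]; simp only; rw [map_sum, Finset.smul_sum]
    exact Finset.sum_congr rfl fun i hi => by rw [hfe, (Finset.mem_filter.1 hi).2]
  have hFo : ∀ s t, s ≠ t → ⟪F s, F t⟫_ℂ = 0 := fun s t hst => by
    simp only [hF, sum_inner, inner_sum]
    exact Finset.sum_eq_zero fun i hi => Finset.sum_eq_zero fun j hj => horth j i (by
      rw [(Finset.mem_filter.1 hi).2, (Finset.mem_filter.1 hj).2]; exact hst)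
  have hpy : ∀ c : ℂ → ℂ, ‖∑ t ∈ T, c t • F t‖ ^ 2 = ∑ t ∈ T, (‖c t‖ * ‖F t‖) ^ 2 := by
    intro c
    have h1 : ⟪∑ t ∈ T, c t • F t, ∑ t ∈ T, c t • F t⟫_ℂ =
        ∑ t ∈ T, ⟪c t • F t, c t • F t⟫_ℂ := by
      rw [sum_inner]
      refine Finset.sum_congr rfl fun s hs => ?_
      rw [inner_sum]
      refine Finset.sum_eq_single s (fun t _ hts => ?_) (fun h => absurd hs h)
      rw [inner_smul_left, inner_smul_right, hFo s t hts.symm, mul_zero, mul_zero]
    simp only [inner_self_eq_norm_sq_to_K, norm_smul] at h1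
    exact_mod_cast h1
  have h1 : U x (w) - ω • w = ∑ t ∈ T, (t - ω) • F t := by
    rw [hev, hbF, map_sum, Finset.smul_sum, ← Finset.sum_sub_distrib]
    exact Finset.sum_congr rfl fun t _ => by rw [hFe, sub_smul]
  have h2 : ‖w‖ ^ 2 = ∑ t ∈ T, (‖(1 : ℂ)‖ * ‖F t‖) ^ 2 := by
    rw [← hpy fun _ => 1, hev, hbF]; simp
  refine (pow_le_pow_iff_left₀ (norm_nonneg _) (mul_nonneg hr0 (norm_nonneg _)) two_ne_zero).1 ?_
  rw [h1, hpy, mul_pow, h2, Finset.mul_sum]
  refine Finset.sum_le_sum fun t ht => ?_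
  obtain ⟨j, hj, rfl⟩ := Finset.mem_image.1 ht
  rw [norm_one, one_mul, ← mul_pow]
  exact pow_le_pow_left₀ (by positivity)
    (mul_le_mul_of_nonneg_right (hrμ j (Finset.mem_filter.1 hj).2) (norm_nonneg _)) 2

/-- An irreducible representation in which one element has concentrated eigenvalues makes that
element scalar. -/
theorem scalar_of_concentrated [IsSimpleGroup G] {n : ℕ} (ρ : Representation ℂ G (Fin n → ℂ))
    [ρ.IsIrreducible] {x : G} {p : ℕ} (hp : 0 < p) (hxp : x ^ p = 1) (hx1 : x ≠ 1) {ω : ℂ}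
    (hωp : ω ^ p = 1) {v₀ : Fin n → ℂ} (hv₀ : v₀ ≠ 0) (hv₀ω : ρ x v₀ = ω • v₀)
    {ι : Type*} [Fintype ι] (μ : ι → ℂ) (hμp : ∀ i, μ i ^ p = 1)
    (hμ : ∀ i, μ i = ω ∨ ‖μ i - ω‖ < 1)
    (hdec : ∀ v, ∃ w : ι → (Fin n → ℂ), v = ∑ i, w i ∧ ∀ i, ρ x (w i) = μ i • w i) :
    ∀ v, ρ x v = ω • v := by
  classical
  haveI := Fintype.ofFinite G
  obtain ⟨N, e, U, hU, hUe⟩ := exists_unitary ρ
  have hnorm : ∀ c : ℂ, c ^ p = 1 → ‖c‖ = 1 := fun c hc =>
    Complex.norm_eq_one_of_pow_eq_one hc hp.ne'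
  obtain ⟨r, hr0, hr1, hrμ⟩ : ∃ r : ℝ, 0 ≤ r ∧ r < 1 ∧ ∀ i, μ i ≠ ω → ‖μ i - ω‖ ≤ r := by
    let S : Finset ℝ :=
      insert 0 ((Finset.univ.filter fun i => μ i ≠ ω).image fun i => ‖μ i - ω‖)
    have hS : S.Nonempty := Finset.insert_nonempty _ _
    refine ⟨S.max' hS, Finset.le_max' _ _ (Finset.mem_insert_self _ _),
      (Finset.max'_lt_iff _ hS).2 fun y hy => ?_, fun i hi => Finset.le_max' S _ ?_⟩
    swap
    · exact Finset.mem_insert_of_mem (Finset.mem_image.2
        ⟨i, Finset.mem_filter.2 ⟨Finset.mem_univ i, hi⟩, rfl⟩)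
    rcases Finset.mem_insert.1 hy with rfl | hy
    · exact one_pos
    · obtain ⟨i, hi, rfl⟩ := Finset.mem_image.1 hy
      exact (hμ i).resolve_left (Finset.mem_filter.1 hi).2
  have hgap : ∀ w ∈ (fixSp U x ω 1)ᗮ, ‖U x w - ω • w‖ ≤ r * ‖w‖ := by
    refine gap_of_decomp hU hr0 (fun i => hnorm _ (hμp i)) hrμ fun w => ?_
    obtain ⟨v, rfl⟩ := e.surjective w
    obtain ⟨c, hc, hce⟩ := hdec v
    exact ⟨fun i => e (c i), by rw [hc, map_sum], fun i => by rw [hUe, hce, map_smul]⟩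
  have hinv := fun g v => fixSp_invariant hU (hnorm ω hωp) hp hxp hωp hr0 hr1 hgap g (v := v)
  let W : Submodule ℂ (Fin n → ℂ) := (fixSp U x ω 1).comap e.toLinearMap
  have hW : ∀ v, v ∈ W ↔ ρ x v = ω • v := fun v => by
    show e v ∈ fixSp U x ω 1 ↔ _
    rw [mem_fixSp, one_mul, inv_one, mul_one, hUe, ← map_smul, e.injective.eq_iff]
  have hgen : ∀ g : G, ∀ v ∈ W, ρ g v ∈ W := by
    intro g
    have hg : g ∈ Subgroup.closure (Group.conjugatesOfSet ({x} : Set G)) := by
      have h1 : Subgroup.normalClosure ({x} : Set G) = ⊤ :=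
        (Subgroup.normalClosure_normal.eq_bot_or_eq_top).resolve_left fun hb => hx1 (by
          have := Subgroup.subset_normalClosure (s := ({x} : Set G)) (Set.mem_singleton x)
          rw [hb] at this
          exact Subgroup.mem_bot.1 this)
      rw [← Subgroup.normalClosure, h1]; trivial
    induction hg using Subgroup.closure_induction_left with
    | one => intro v hv; simpa using hv
    | mul_left a ha b hb ih =>
      obtain ⟨y, hy, hya⟩ := Group.mem_conjugatesOfSet_iff.1 ha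
      rw [Set.mem_singleton_iff] at hy; subst hy
      obtain ⟨c, rfl⟩ := isConj_iff.1 hya
      intro v hv
      rw [map_mul, Module.End.mul_apply]
      show e _ ∈ fixSp U y ω 1
      rw [← hUe]
      exact hinv c _ (ih v hv)
    | inv_mul_cancel a ha b hb ih =>
      obtain ⟨y, hy, hya⟩ := Group.mem_conjugatesOfSet_iff.1 ha
      rw [Set.mem_singleton_iff] at hy; subst hy
      obtain ⟨c, rfl⟩ := isConj_iff.1 hya
      intro v hv
      rw [map_mul, Module.End.mul_apply]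
      have e1 : (c * y * c⁻¹)⁻¹ = (c * y * c⁻¹) ^ (p - 1) := by
        apply inv_eq_of_mul_eq_one_right
        rw [← pow_succ', Nat.sub_add_cancel hp, conj_pow, hxp, mul_one, mul_inv_cancel]
      rw [e1]
      have hW' : ∀ k : ℕ, ∀ v ∈ W, ρ ((c * y * c⁻¹) ^ k) v ∈ W := by
        intro k
        induction k with
        | zero => intro v hv; simpa using hv
        | succ k ihk =>
          intro v hv
          rw [pow_succ', map_mul, Module.End.mul_apply]
          show e _ ∈ fixSp U y ω 1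
          rw [← hUe]
          exact hinv c _ (ihk v hv)
      exact hW' _ _ (ih v hv)
  let S : Subrepresentation ρ := ⟨W, fun g v hv => hgen g v hv⟩
  rcases IsSimpleOrder.eq_bot_or_eq_top S with h | h
  · exfalso
    have h1 : v₀ ∈ S.toSubmodule := (hW v₀).2 hv₀ω
    rw [h] at h1
    exact hv₀ ((Submodule.mem_bot ℂ).1 h1)
  · intro v
    have h1 : v ∈ S.toSubmodule := by rw [h]; trivial
    exact (hW v).1 h1

/-- Roots of unity reduce to one modulo `M`. -/
theorem res_root {p : ℕ} {M : Ideal AlgInt} (hM : IsPModular p M) {ζ : ℂ} (hζ : ζ ^ p = 1) :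
    MemLocalRing M ζ ∧ res hM ζ = 1 := by
  have hint : IsIntegral ℤ ζ :=
    ⟨Polynomial.X ^ p - 1, Polynomial.monic_X_pow_sub_C 1 hM.1.ne_zero, by simp [hζ]⟩
  have hm : MemLocalRing M ζ :=
    memLocalRing_iff.2 ⟨⟨ζ, hint⟩, 1, one_notMem hM, by simp⟩
  refine ⟨hm, ?_⟩
  haveI := res_isDomain hM
  haveI := res_charP hM
  haveI : Fact p.Prime := ⟨hM.1⟩
  have h := res_pow hM hm p
  rw [hζ, res_one] at h
  have h2 : (res hM ζ - 1) ^ p = 0 := by rw [sub_pow_char, ← h, one_pow, sub_self]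
  exact sub_eq_zero.1 (eq_zero_of_pow_eq_zero h2)

/-- The eigenvalues of an element of order `p` take at most `g₀` values. -/
theorem support_small {p : ℕ} (hp : p.Prime) {M : Ideal AlgInt} (hM : IsPModular p M) {n g₀ : ℕ}
    (hn : 0 < n) (hg0 : 0 < g₀) (hg : g₀ < p) {ζ : ℂ} (hζ : IsPrimitiveRoot ζ p) (m : ℕ → ℕ)
    (hm : ∑ k ∈ Finset.range p, m k = n)
    (hint : ∀ s : ℕ, IsIntegral ℤ ((g₀ : ℂ) * (∑ k ∈ Finset.range p, (m k : ℂ) * (ζ ^ k) ^ s) / n))
    (hcongr : MemLocalIdeal M ((g₀ : ℂ) * (∑ k ∈ Finset.range p, (m k : ℂ) * ζ ^ k) / n - g₀)) :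
    ((Finset.range p).filter fun k => m k ≠ 0).card ≤ g₀ := by
  classical
  haveI := res_charP hM
  set α : ℕ → ℂ := fun s =>
    (g₀ : ℂ) * (∑ k ∈ Finset.range p, (m k : ℂ) * (ζ ^ k) ^ s) / n with hα
  have hn' : (n : ℂ) ≠ 0 := Nat.cast_ne_zero.2 hn.ne'
  have hζp : ζ ^ p = 1 := hζ.pow_eq_one
  have hζ0 : ζ ≠ 0 := hζ.ne_zero hp.ne_zero
  have hαm : ∀ s, MemLocalRing M (α s) := fun s =>
    memLocalRing_iff.2 ⟨⟨α s, hint s⟩, 1, one_notMem hM, by simp⟩
  -- Fourier inversion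
  have hfour : ∀ l ∈ Finset.range p, ∑ s ∈ Finset.range p, (ζ⁻¹ ^ l) ^ s * α s =
      (p : ℂ) * g₀ * m l / n := by
    intro l hl
    have hkey : ∀ k ∈ Finset.range p, ∑ s ∈ Finset.range p, (ζ⁻¹ ^ l * ζ ^ k) ^ s =
        if k = l then (p : ℂ) else 0 := by
      intro k hk
      split_ifs with hkl
      · subst hkl; simp [inv_pow, inv_mul_cancel₀ (pow_ne_zero _ hζ0)]
      · have hne : ζ⁻¹ ^ l * ζ ^ k ≠ 1 := by
          intro h
          refine hkl (hζ.pow_inj (Finset.mem_range.1 hk) (Finset.mem_range.1 hl) ?_)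
          rw [inv_pow, inv_mul_eq_one₀ (pow_ne_zero _ hζ0)] at h
          exact h.symm
        rw [geom_sum_eq hne, mul_pow, ← pow_mul, ← pow_mul, mul_comm l p, mul_comm k p, pow_mul,
          pow_mul, inv_pow, hζp]
        simp
    simp only [hα, Finset.mul_sum, Finset.sum_div, ← mul_div_assoc]
    rw [Finset.sum_comm, Finset.sum_eq_single l]
    · calc ∑ s ∈ Finset.range p, (ζ⁻¹ ^ l) ^ s * ((g₀ : ℂ) * ((m l : ℂ) * (ζ ^ l) ^ s)) / n
          = ((g₀ : ℂ) * m l / n) * ∑ s ∈ Finset.range p, (ζ⁻¹ ^ l * ζ ^ l) ^ s := by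
            rw [Finset.mul_sum]; exact Finset.sum_congr rfl fun s _ => by rw [mul_pow]; ring
        _ = _ := by rw [hkey l hl, if_pos rfl]; ring
    · intro k hk hkl
      calc ∑ s ∈ Finset.range p, (ζ⁻¹ ^ l) ^ s * ((g₀ : ℂ) * ((m k : ℂ) * (ζ ^ k) ^ s)) / n
          = ((g₀ : ℂ) * m k / n) * ∑ s ∈ Finset.range p, (ζ⁻¹ ^ l * ζ ^ k) ^ s := by
            rw [Finset.mul_sum]; exact Finset.sum_congr rfl fun s _ => by rw [mul_pow]; ring
        _ = _ := by rw [hkey k hk, if_neg hkl, mul_zero]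
    · exact fun h => absurd hl h
  have hcint : ∀ l ∈ Finset.range p, ∃ a : ℕ, a * n = p * g₀ * m l := by
    intro l hl
    have h1 : IsIntegral ℤ ((p : ℂ) * g₀ * m l / n) := by
      rw [← hfour l hl]
      refine IsIntegral.sum _ fun s _ => (IsIntegral.pow (IsIntegral.pow ?_ l) s).mul (hint s)
      exact ⟨Polynomial.X ^ p - 1, Polynomial.monic_X_pow_sub_C 1 hp.ne_zero,
        by simp [inv_pow, hζp]⟩
    have h2 : IsIntegral ℤ ((((p : ℚ) * g₀ * m l / n : ℚ)) : ℂ) := by push_cast; exact h1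
    obtain ⟨k, hk⟩ := exists_int_of_isIntegral_ratCast h2
    have hn'' : (n : ℚ) ≠ 0 := Nat.cast_ne_zero.2 hn.ne'
    rw [div_eq_iff hn''] at hk
    have h3 : ((p * g₀ * m l : ℕ) : ℤ) = k * n := by exact_mod_cast hk
    have hk0 : 0 ≤ k := by
      by_contra hlt
      push Not at hlt
      have h4 : k * (n : ℤ) < 0 := mul_neg_of_neg_of_pos hlt (by exact_mod_cast hn)
      rw [← h3] at h4
      exact absurd h4 (not_lt.2 (Int.natCast_nonneg _))
    obtain ⟨a, rfl⟩ := Int.eq_ofNat_of_zero_le hk0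
    exact ⟨a, by exact_mod_cast h3.symm⟩
  choose! a ha using hcint
  have hres : ∀ l ∈ Finset.range p, (a l : AlgInt ⧸ M) = ∑ s ∈ Finset.range p, res hM (α s) := by
    intro l hl
    have hr := res_root hM (ζ := ζ⁻¹ ^ l) (by
      rw [← pow_mul, mul_comm, pow_mul, inv_pow, hζp]; simp)
    have h1 : ((a l : ℕ) : ℂ) = ∑ s ∈ Finset.range p, (ζ⁻¹ ^ l) ^ s * α s := by
      rw [hfour l hl, eq_div_iff hn']
      exact_mod_cast ha l hl
    rw [← res_natCast hM, h1, res_sum hM fun s _ => (loc hM).mul_mem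
      ((loc hM).pow_mem hr.1 s) (hαm s)]
    exact Finset.sum_congr rfl fun s _ => by
      rw [res_mul hM ((loc hM).pow_mem hr.1 s) (hαm s), res_pow hM hr.1, hr.2, one_pow, one_mul]
  have h0 : (0 : ℕ) ∈ Finset.range p := Finset.mem_range.2 hp.pos
  set j := a 0 % p with hj
  have hmod : ∀ l ∈ Finset.range p, a l % p = j := fun l hl =>
    (CharP.natCast_eq_natCast (AlgInt ⧸ M) p).1 ((hres l hl).trans (hres 0 h0).symm)
  set e : ℕ → ℕ := fun l => a l / p with he
  have hae : ∀ l ∈ Finset.range p, a l = j + p * e l := fun l hl => by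
    rw [← hmod l hl, he]; exact (Nat.mod_add_div _ _).symm
  have hsum : j + ∑ l ∈ Finset.range p, e l = g₀ := by
    have h1 : (∑ l ∈ Finset.range p, a l) * n = p * g₀ * n := by
      rw [Finset.sum_mul, Finset.sum_congr rfl ha, ← Finset.mul_sum, hm]
    have h2 := Nat.eq_of_mul_eq_mul_right hn h1
    rw [Finset.sum_congr rfl hae, Finset.sum_add_distrib, Finset.sum_const, Finset.card_range,
      smul_eq_mul, ← Finset.mul_sum, ← mul_add] at h2
    exact Nat.eq_of_mul_eq_mul_left hp.pos h2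
  have hα1 : α 1 = ∑ l ∈ Finset.range p, (e l : ℂ) * ζ ^ l := by
    have h1 : ∀ l ∈ Finset.range p, (g₀ : ℂ) * ((m l : ℂ) * (ζ ^ l) ^ 1) / n =
        (j : ℂ) / p * ζ ^ l + (e l : ℂ) * ζ ^ l := by
      intro l hl
      have h2 : ((a l : ℕ) : ℂ) * n = (p : ℂ) * g₀ * m l := by exact_mod_cast ha l hl
      have h3 : ((a l : ℕ) : ℂ) = (j : ℂ) + p * e l := by exact_mod_cast hae l hl
      have hp' : (p : ℂ) ≠ 0 := Nat.cast_ne_zero.2 hp.ne_zero
      rw [h3] at h2
      field_simp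
      linear_combination (-1 : ℂ) * h2
    simp only [hα, Finset.mul_sum, Finset.sum_div]
    rw [Finset.sum_congr rfl h1, Finset.sum_add_distrib, ← Finset.mul_sum,
      hζ.geom_sum_eq_zero hp.one_lt, mul_zero, zero_add]
  have hj0 : j = 0 := by
    have h1 : res hM (α 1) = ((∑ l ∈ Finset.range p, e l : ℕ) : AlgInt ⧸ M) := by
      have hr := fun l : ℕ => res_root hM (ζ := ζ ^ l) (by
        rw [← pow_mul, mul_comm, pow_mul, hζp, one_pow])
      rw [hα1, res_sum hM fun l _ => (loc hM).mul_mem (memRing_natCast hM _) (hr l).1,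
        Nat.cast_sum]
      exact Finset.sum_congr rfl fun l _ => by
        rw [res_mul hM (memRing_natCast hM _) (hr l).1, (hr l).2, res_natCast, mul_one]
    have h2 : res hM (α 1) = (g₀ : AlgInt ⧸ M) := by
      rw [← res_natCast hM]
      refine (memIdeal_sub_iff hM (hαm 1) (memRing_natCast hM _)).1 ?_
      simpa [hα, pow_one] using hcongr
    rw [h1, CharP.natCast_eq_natCast (AlgInt ⧸ M) p, Nat.ModEq,
      Nat.mod_eq_of_lt (by omega : ∑ l ∈ Finset.range p, e l < p), Nat.mod_eq_of_lt hg] at h2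
    omega
  calc ((Finset.range p).filter fun k => m k ≠ 0).card
      ≤ ∑ l ∈ (Finset.range p).filter (fun k => m k ≠ 0), e l := by
        rw [Finset.card_eq_sum_ones]
        refine Finset.sum_le_sum fun l hl => ?_
        obtain ⟨hl, hml⟩ := Finset.mem_filter.1 hl
        by_contra he0
        have h1 : e l = 0 := by omega
        have h2 := ha l hl
        rw [hae l hl, hj0, h1, mul_zero, add_zero, zero_mul] at h2
        rcases mul_eq_zero.1 h2.symm with h | h
        · rcases mul_eq_zero.1 h with h | h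
          · exact hp.ne_zero h
          · omega
        · exact hml h
    _ ≤ ∑ l ∈ Finset.range p, e l :=
        Finset.sum_le_sum_of_subset (Finset.filter_subset _ _)
    _ ≤ g₀ := by omega

/-- A power of a primitive root with small centred exponent is close to one. -/
theorem norm_root_sub_one {p : ℕ} (hp : 0 < p) {d : ℤ} (h : 6 * |d| < p) :
    ‖Complex.exp (2 * Real.pi * Complex.I / p) ^ d - 1‖ < 1 := by
  have hp' : (0 : ℝ) < p := by exact_mod_cast hp
  have e : Complex.exp (2 * Real.pi * Complex.I / p) ^ d =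
      Complex.exp (Complex.I * ((2 * Real.pi * d / p : ℝ) : ℂ)) := by
    rw [← Complex.exp_int_mul]; congr 1; push_cast; ring
  rw [e, Complex.norm_exp_I_mul_ofReal_sub_one, Real.norm_eq_abs, abs_mul, abs_two]
  set t : ℝ := 2 * Real.pi * d / p / 2 with ht
  have habs : |t| < Real.pi / 6 := by
    have h1 : (6 : ℝ) * |(d : ℝ)| < p := by exact_mod_cast h
    have h2 : |t| = Real.pi * (|(d : ℝ)| / p) := by
      rw [ht, show 2 * Real.pi * (d : ℝ) / p / 2 = Real.pi * ((d : ℝ) / p) by ring, abs_mul,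
        abs_of_pos Real.pi_pos, abs_div, abs_of_pos hp']
    rw [h2]
    have h3 : |(d : ℝ)| / p < 1 / 6 := by rw [div_lt_iff₀ hp']; linarith
    nlinarith [Real.pi_pos]
  obtain ⟨h1, h2⟩ := abs_lt.1 habs
  have hs1 : Real.sin t < 1 / 2 := by
    rw [← Real.sin_pi_div_six]
    exact Real.sin_lt_sin_of_lt_of_le_pi_div_two (by linarith [Real.pi_pos])
      (by linarith [Real.pi_pos]) h2
  have hs2 : -(1 / 2) < Real.sin t := by
    rw [← Real.sin_pi_div_six, ← Real.sin_neg]
    exact Real.sin_lt_sin_of_lt_of_le_pi_div_two (by linarith [Real.pi_pos])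
      (by linarith [Real.pi_pos]) h1
  have := abs_lt.2 ⟨hs2, hs1⟩
  linarith

/-- Some multiple concentrates a small set of residues. -/
theorem exists_dilation {p g₀ : ℕ} (hp : 0 < p) (hbig : 6 ^ (g₀ - 1) < p) {T : Finset ℕ}
    (hT : T.card ≤ g₀) {k₀ : ℕ} (hk₀ : k₀ ∈ T) :
    ∃ d, 0 < d ∧ d < p ∧ ∀ k ∈ T, ∃ D : ℤ, 6 * |D| < p ∧
      (p : ℤ) ∣ (d * k : ℤ) - d * k₀ - D := by
  classical
  let E : ℕ → ℕ → ℤ := fun s k => ((s : ℤ) * ((k : ℤ) - k₀)) % p
  have hp' : (0 : ℤ) < p := by exact_mod_cast hp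
  let f : Fin p → (↥(T.erase k₀) → Fin 6) := fun s k => ⟨(6 * E s k / p).toNat, by
    have h1 : E s k < p := Int.emod_lt_of_pos _ hp'
    have h2 : 6 * E s k / (p : ℤ) < 6 := Int.ediv_lt_of_lt_mul hp' (by linarith)
    omega⟩
  have hcard : Fintype.card (↥(T.erase k₀) → Fin 6) < Fintype.card (Fin p) := by
    rw [Fintype.card_fun, Fintype.card_fin, Fintype.card_fin, Fintype.card_coe,
      Finset.card_erase_of_mem hk₀]
    exact lt_of_le_of_lt (Nat.pow_le_pow_right (by norm_num) (by omega)) hbig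
  obtain ⟨s, t, hst, hf⟩ := Fintype.exists_ne_map_eq_of_card_lt f hcard
  wlog hlt : (s : ℕ) < t generalizing s t
  · exact this t s hst.symm hf.symm (lt_of_le_of_ne (not_lt.1 hlt)
      fun h => hst (Fin.ext h.symm))
  refine ⟨t - s, by omega, by omega, fun k hk => ⟨E t k - E s k, ?_, ?_⟩⟩
  · by_cases hk' : k = k₀
    · subst hk'; simp [E, hp]
    · have h1 := congrArg Fin.val (congrFun hf ⟨k, Finset.mem_erase.2 ⟨hk', hk⟩⟩)
      simp only [f] at h1
      have hnn : ∀ u : ℕ, 0 ≤ E u k := fun u => Int.emod_nonneg _ hp'.ne'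
      have hq : ∀ u : ℕ, 0 ≤ 6 * E u k / (p : ℤ) := fun u =>
        Int.ediv_nonneg (by have := hnn u; linarith) hp'.le
      have h2 : 6 * E s k / (p : ℤ) = 6 * E t k / (p : ℤ) := by
        have := hq s; have := hq t; omega
      have h3 := Int.mul_ediv_add_emod (6 * E s k) p
      have h4 := Int.mul_ediv_add_emod (6 * E t k) p
      have h5 := Int.emod_lt_of_pos (6 * E s k) hp'
      have h6 := Int.emod_lt_of_pos (6 * E t k) hp'
      have h7 := Int.emod_nonneg (6 * E s k) hp'.ne'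
      have h8 := Int.emod_nonneg (6 * E t k) hp'.ne'
      rw [h2] at h3
      rw [show (6 : ℤ) * |E t k - E s k| = |6 * E t k - 6 * E s k| by
        rw [← mul_sub, abs_mul]; norm_num]
      rw [abs_lt]
      constructor <;> linarith
  · have h1 : ∀ u : ℕ, (p : ℤ) ∣ (u : ℤ) * ((k : ℤ) - k₀) - E u k := fun u =>
      Int.dvd_self_sub_emod
    have h2 := dvd_sub (h1 t) (h1 s)
    rw [Nat.cast_sub hlt.le]
    have e : ((t : ℕ) : ℤ) * ((k : ℤ) - k₀) - E t k - (((s : ℕ) : ℤ) * ((k : ℤ) - k₀) - E s k) =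
        (((t : ℕ) : ℤ) - ((s : ℕ) : ℤ)) * k - (((t : ℕ) : ℤ) - ((s : ℕ) : ℤ)) * k₀ -
          (E t k - E s k) := by ring
    rwa [e] at h2

end CfsgLib.TwoPrimeBound
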