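import Cfsg.Agent.Lib.TwoPrimeBound.Main
import Cfsg.Agent.Lib.LinearGroups.Small
import Cfsg.Agent.Lib.LinearGroups.Jordan
import Cfsg.Agent.Lib.CharTheory.Schur

/-!
# Abelian subgroups and Sylow subgroups of simple linear groups of small degree
-/

namespace CfsgLib.TwoPrimeBound

open Cfsg CfsgLib.CharTheory
open scoped commutatorElement

universe u

variable {G : Type u} [Group G] [Finite G] [IsSimpleGroup G] {n : ℕ}
  (ρ : Representation ℂ G (Fin n → ℂ)) [ρ.IsIrreducible]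

/-- A non-trivial irreducible representation of a simple group is faithful. -/
theorem rep_injective (hne : ρ.character ≠ fun _ => 1) : Function.Injective ρ := by
  refine (MonoidHom.ker_eq_bot_iff ρ).mp
    (((MonoidHom.normal_ker ρ).eq_bot_or_eq_top).resolve_right fun e => hne ?_)
  refine irr_eq_one_of_kernel_top ⟨n, ρ, inferInstance, rfl⟩ fun x => ?_
  have hx : ρ x = 1 := MonoidHom.mem_ker.mp (by rw [e]; exact Subgroup.mem_top x)
  simp [Representation.character, hx]

/-- A central element of a non-abelian simple group is trivial. -/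
theorem central_eq_one (hna : ∃ a b : G, a * b ≠ b * a) {x : G} (hx : ∀ g, x * g = g * x) :
    x = 1 := by
  rcases Subgroup.Normal.eq_bot_or_eq_top (H := Subgroup.center G) inferInstance with h | h
  · have : x ∈ Subgroup.center G := Subgroup.mem_center_iff.2 fun g => (hx g).symm
    rwa [h, Subgroup.mem_bot] at this
  · obtain ⟨a, b, hab⟩ := hna
    exact absurd (Subgroup.mem_center_iff.1 (h ▸ Subgroup.mem_top a : a ∈ Subgroup.center G) b).symm hab

/-- Scalar elements are trivial. -/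
theorem eq_one_of_scalar (hna : ∃ a b : G, a * b ≠ b * a) (hne : ρ.character ≠ fun _ => 1) {x : G}
    {ω : ℂ} (hx : ∀ v, ρ x v = ω • v) : x = 1 := by
  refine central_eq_one hna fun g => rep_injective ρ hne (LinearMap.ext fun v => ?_)
  rw [map_mul, map_mul, Module.End.mul_apply, Module.End.mul_apply, hx, hx, map_smul]

/-- The degree is at least three. -/
theorem two_lt_degree (hna : ∃ a b : G, a * b ≠ b * a) (hne : ρ.character ≠ fun _ => 1) : 1 < n := by
  by_contra hle
  push Not at hle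
  obtain ⟨a, b, hab⟩ := hna
  refine hab (rep_injective ρ hne ?_)
  rw [map_mul, map_mul]
  rcases Nat.eq_zero_or_pos n with h | h
  · subst h
    exact Subsingleton.elim _ _
  · obtain rfl : n = 1 := by omega
    have h1 : ∀ f : Module.End ℂ (Fin 1 → ℂ), ∃ c : ℂ, ∀ v, f v = c • v := fun f =>
      ⟨f (fun _ => 1) 0, fun v => by
        funext i
        obtain rfl : i = 0 := Subsingleton.elim _ _
        have e : v = v 0 • (fun _ : Fin 1 => (1 : ℂ)) := by
          funext j; obtain rfl : j = 0 := Subsingleton.elim _ _; simp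
        conv_lhs => rw [e, map_smul]
        simp [mul_comm]⟩
    obtain ⟨c, hc⟩ := h1 (ρ a)
    exact LinearMap.ext fun v => by
      rw [Module.End.mul_apply, Module.End.mul_apply, hc, hc, map_smul]

/-- Weights of an abelian subgroup. -/
theorem exists_weights (A : Subgroup G) (hA : ∀ a ∈ A, ∀ b ∈ A, a * b = b * a) :
    ∃ s : Finset (A → ℂ), s.card ≤ n ∧
      (∀ χ ∈ s, ∀ a : A, χ a ^ orderOf (a : G) = 1) ∧
      (∀ χ ∈ s, ∃ v : Fin n → ℂ, v ≠ 0 ∧ ∀ a : A, ρ (a : G) v = χ a • v) ∧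
      ∀ v, ∃ f : (A → ℂ) → (Fin n → ℂ), v = ∑ χ ∈ s, f χ ∧
        ∀ χ ∈ s, ∀ a : A, ρ (a : G) (f χ) = χ a • f χ := by
  classical
  haveI := Fintype.ofFinite G
  obtain ⟨N, e, U, hU, hUe⟩ := exists_unitary ρ
  obtain ⟨s₀, hs₀, hs₀'⟩ := LinearGroups.finite_joint (T := U) hU (A : Set G)
  set J : (A → ℂ) → Submodule ℂ (EuclideanSpace ℂ (Fin N)) := fun χ =>
    ⨅ h : A, Module.End.eigenspace (U (h : G)) (χ h) with hJ
  have hdim : Module.finrank ℂ (EuclideanSpace ℂ (Fin N)) = n := by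
    rw [← e.finrank_eq, Module.finrank_fin_fun]
  have hjoin : ∀ χ, ∀ w ∈ J χ, ∀ a : A, ρ (a : G) (e.symm w) = χ a • e.symm w := by
    intro χ w hw a
    apply e.injective
    rw [← hUe, map_smul, e.apply_symm_apply]
    exact Module.End.mem_eigenspace_iff.1 ((Submodule.mem_iInf _).1 hw a)
  refine ⟨s₀.filter fun χ => J χ ≠ ⊥, (Finset.card_filter_le _ _).trans (hdim ▸ hs₀),
    fun χ hχ a => ?_, fun χ hχ => ?_, fun v => ?_⟩
  · obtain ⟨w, hw, hw0⟩ := Submodule.exists_mem_ne_zero_of_ne_bot (Finset.mem_filter.1 hχ).2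
    have h1 : ∀ k : ℕ, U ((a : G) ^ k) w = χ a ^ k • w := by
      intro k
      induction k with
      | zero => simp
      | succ k ih =>
        rw [pow_succ', map_mul, Module.End.mul_apply, ih, map_smul,
          Module.End.mem_eigenspace_iff.1 ((Submodule.mem_iInf _).1 hw a), smul_smul, ← pow_succ]
    have h2 := h1 (orderOf (a : G))
    rw [pow_orderOf_eq_one, map_one, Module.End.one_apply] at h2
    have h3 : (χ a ^ orderOf (a : G) - 1) • w = 0 := by rw [sub_smul, one_smul, ← h2, sub_self]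
    exact sub_eq_zero.1 ((smul_eq_zero.1 h3).resolve_right hw0)
  · obtain ⟨w, hw, hw0⟩ := Submodule.exists_mem_ne_zero_of_ne_bot (Finset.mem_filter.1 hχ).2
    exact ⟨e.symm w, fun h => hw0 (e.symm.map_eq_zero_iff.1 h), hjoin χ w hw⟩
  · obtain ⟨t, f, hv, hf⟩ := LinearGroups.span_joint (T := U) hU (A : Set G) hA (e v)
    refine ⟨fun χ => if χ ∈ t then e.symm (f χ) else 0, ?_, fun χ _ a => ?_⟩
    · have h1 : v = ∑ χ ∈ t, e.symm (f χ : EuclideanSpace ℂ (Fin N)) := by
        rw [← map_sum, ← hv, e.symm_apply_apply]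
      refine h1.trans ?_
      rw [← Finset.sum_filter]
      refine (Finset.sum_subset (fun χ hχ => (Finset.mem_filter.1 hχ).2) fun χ hχ hχ' => ?_).symm
      by_contra h0
      have hfne : f χ ≠ 0 := fun h => h0 (by rw [h]; simp)
      exact hχ' (Finset.mem_filter.2 ⟨Finset.mem_filter.2 ⟨hs₀' χ (hf χ hfne), hf χ hfne⟩, hχ⟩)
    · by_cases hχ : χ ∈ t
      · simp only [if_pos hχ]
        exact hjoin χ _ (f χ).2 a
      · simp [if_neg hχ]

/-- An element with all weights equal to one another is trivial. -/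
theorem eq_one_of_weights (hna : ∃ a b : G, a * b ≠ b * a) (hne : ρ.character ≠ fun _ => 1)
    {A : Subgroup G} {s : Finset (A → ℂ)}
    (hdec : ∀ v, ∃ f : (A → ℂ) → (Fin n → ℂ), v = ∑ χ ∈ s, f χ ∧
      ∀ χ ∈ s, ∀ a : A, ρ (a : G) (f χ) = χ a • f χ) (a : A) {ω : ℂ} (hω : ∀ χ ∈ s, χ a = ω) :
    (a : G) = 1 := by
  refine eq_one_of_scalar ρ hna hne (ω := ω) fun v => ?_
  obtain ⟨f, hv, hf⟩ := hdec v
  rw [hv, map_sum, Finset.smul_sum]
  exact Finset.sum_congr rfl fun χ hχ => by rw [hf χ hχ a, hω χ hχ]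

/-- An abelian subgroup of a simple linear group of degree `n` has order at most `6 ^ (n - 1)`. -/
theorem abelian_bound (hna : ∃ a b : G, a * b ≠ b * a) (hne : ρ.character ≠ fun _ => 1)
    (A : Subgroup G) (hA : ∀ a ∈ A, ∀ b ∈ A, a * b = b * a) : Nat.card A ≤ 6 ^ (n - 1) := by
  classical
  haveI := Fintype.ofFinite G
  obtain ⟨s, hs, hroot, hvec, hdec⟩ := exists_weights ρ A hA
  by_contra hgt
  push Not at hgt
  obtain ⟨χ₀, hχ₀⟩ : s.Nonempty := by
    rw [Finset.nonempty_iff_ne_empty]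
    intro h0
    have : ∀ v : Fin n → ℂ, v = 0 := fun v => by
      obtain ⟨f, hv, -⟩ := hdec v
      rw [hv, h0, Finset.sum_empty]
    have h1 := two_lt_degree ρ hna hne
    have h2 := congrFun (this fun _ => 1) ⟨0, by omega⟩
    exact one_ne_zero h2
  set m := Nat.card G with hm
  have hm0 : 0 < m := Nat.card_pos
  have hζ := Complex.isPrimitiveRoot_exp m hm0.ne'
  set ζ : ℂ := Complex.exp (2 * Real.pi * Complex.I / m) with hζdef
  haveI : NeZero m := ⟨hm0.ne'⟩
  have hexp : ∀ (χ : A → ℂ) (a : A), χ ∈ s → ∃ i < m, ζ ^ i = χ a := fun χ a hχ => by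
    refine hζ.eq_pow_of_pow_eq_one ?_
    obtain ⟨c, hc⟩ := orderOf_dvd_natCard (a : G)
    rw [hm, hc, pow_mul, hroot χ hχ a, one_pow]
  choose! ex hex hexe using hexp
  let E : A → (A → ℂ) → ℤ := fun a χ => ((ex χ a : ℤ) - ex χ₀ a) % m
  have hm' : (0 : ℤ) < m := by exact_mod_cast hm0
  let F : A → (↥(s.erase χ₀) → Fin 6) := fun a χ => ⟨(6 * E a χ / m).toNat, by
    have h1 : E a χ < m := Int.emod_lt_of_pos _ hm'
    have h2 : 6 * E a χ / (m : ℤ) < 6 := Int.ediv_lt_of_lt_mul hm' (by linarith)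
    omega⟩
  obtain ⟨a, b, hab, hF⟩ := Fintype.exists_ne_map_eq_of_card_lt F (by
    rw [Fintype.card_fun, Fintype.card_fin, Fintype.card_coe, Finset.card_erase_of_mem hχ₀]
    refine lt_of_le_of_lt (show (6 : ℕ) ^ (s.card - 1) ≤ 6 ^ (n - 1) from
      Nat.pow_le_pow_right (by norm_num) (by omega)) ?_
    rwa [← Nat.card_eq_fintype_card])
  set x : A := a * b⁻¹ with hx
  have hmul : ∀ χ ∈ s, ∀ a b : A, χ (a * b) = χ a * χ b := by
    intro χ hχ a b
    obtain ⟨v, hv, hve⟩ := hvec χ hχ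
    have h1 : χ (a * b) • v = (χ a * χ b) • v := by
      rw [← hve (a * b), Subgroup.coe_mul, map_mul, Module.End.mul_apply, hve b, map_smul, hve a,
        smul_smul, mul_comm]
    exact smul_left_injective ℂ hv h1
  have hne0 : ∀ χ ∈ s, ∀ a : A, χ a ≠ 0 := fun χ hχ a h => by
    have := hroot χ hχ a
    rw [h, zero_pow (orderOf_pos _).ne'] at this
    exact zero_ne_one this
  have hclose : ∀ χ ∈ s, ‖χ x - χ₀ x‖ < 1 := by
    intro χ hχ
    by_cases hcase : χ = χ₀
    · subst hcase; simp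
    have h1 := congrArg Fin.val (congrFun hF ⟨χ, Finset.mem_erase.2 ⟨hcase, hχ⟩⟩)
    simp only [F] at h1
    have hnn : ∀ u, 0 ≤ E u χ := fun u => Int.emod_nonneg _ hm'.ne'
    have hq : ∀ u, 0 ≤ 6 * E u χ / (m : ℤ) := fun u =>
      Int.ediv_nonneg (by have := hnn u; linarith) hm'.le
    have h2 : 6 * E a χ / (m : ℤ) = 6 * E b χ / (m : ℤ) := by
      have := hq a; have := hq b; omega
    have h3 := Int.mul_ediv_add_emod (6 * E a χ) m
    have h4 := Int.mul_ediv_add_emod (6 * E b χ) m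
    have h5 := Int.emod_lt_of_pos (6 * E a χ) hm'
    have h6 := Int.emod_lt_of_pos (6 * E b χ) hm'
    have h7 := Int.emod_nonneg (6 * E a χ) hm'.ne'
    have h8 := Int.emod_nonneg (6 * E b χ) hm'.ne'
    rw [h2] at h3
    have hlt : 6 * |E a χ - E b χ| < (m : ℤ) := by
      rw [show (6 : ℤ) * |E a χ - E b χ| = |6 * E a χ - 6 * E b χ| by
        rw [← mul_sub, abs_mul]; norm_num]
      rw [abs_lt]
      constructor <;> linarith
    have hnorm := norm_root_sub_one hm0 hlt
    have hζ0 : ζ ≠ 0 := Complex.exp_ne_zero _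
    have hz : ∀ u : A, ζ ^ (E u χ) = χ u * (χ₀ u)⁻¹ := by
      intro u
      have e1 : (ex χ u : ℤ) - ex χ₀ u = E u χ + (m : ℤ) * (((ex χ u : ℤ) - ex χ₀ u) / m) :=
        (Int.emod_add_mul_ediv _ _).symm
      have e2 : ζ ^ ((ex χ u : ℤ) - ex χ₀ u) = ζ ^ (E u χ) := by
        rw [e1, zpow_add₀ hζ0, zpow_mul ζ (m : ℤ), zpow_natCast ζ m, hζ.pow_eq_one, one_zpow,
          mul_one]
      rw [← e2, zpow_sub₀ hζ0, zpow_natCast, zpow_natCast, hexe χ u hχ, hexe χ₀ u hχ₀, div_eq_mul_inv]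
    have hxv : ∀ χ' ∈ s, χ' x * χ' b = χ' a := fun χ' h' => by
      rw [← hmul χ' h', hx, inv_mul_cancel_right]
    have hval : χ x = χ₀ x * ζ ^ (E a χ - E b χ) := by
      rw [zpow_sub₀ hζ0, hz a, hz b, ← hxv χ hχ, ← hxv χ₀ hχ₀]
      have := hne0 χ hχ b
      have := hne0 χ₀ hχ₀ b
      have := hne0 χ₀ hχ₀ x
      field_simp
    rw [hval, show χ₀ x * ζ ^ (E a χ - E b χ) - χ₀ x = χ₀ x * (ζ ^ (E a χ - E b χ) - 1) by ring,
      norm_mul, Complex.norm_eq_one_of_pow_eq_one (hroot χ₀ hχ₀ x) (orderOf_pos _).ne', one_mul]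
    exact hnorm
  have hx1 : (x : G) ≠ 1 := fun h => hab (by
    have : x = 1 := Subtype.ext h
    rwa [hx, mul_inv_eq_one] at this)
  obtain ⟨v₀, hv₀, hv₀e⟩ := hvec χ₀ hχ₀
  have hscal := scalar_of_concentrated ρ (p := orderOf (x : G)) (orderOf_pos _) (pow_orderOf_eq_one _)
    hx1 (hroot χ₀ hχ₀ x) hv₀ (hv₀e x) (ι := ↥s) (fun χ => (χ : A → ℂ) x)
    (fun χ => hroot χ χ.2 x) (fun χ => Or.inr (hclose χ χ.2)) (fun v => by
      obtain ⟨f, hv, hf⟩ := hdec v
      exact ⟨fun χ => f χ, by rw [hv, ← Finset.sum_coe_sort], fun χ => hf χ χ.2 x⟩)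
  exact hx1 (eq_one_of_scalar ρ hna hne hscal)

/-- A `p`-subgroup of a simple linear group of degree `n` has order at most `(n!)_p * 6 ^ (n - 1)`. -/
theorem pgroup_bound (hna : ∃ a b : G, a * b ≠ b * a) (hne : ρ.character ≠ fun _ => 1) {p : ℕ}
    [Fact p.Prime] (P : Subgroup G) (hP : IsPGroup p P) :
    Nat.card P ≤ p ^ (n.factorial.factorization p) * 6 ^ (n - 1) := by
  classical
  haveI : Group.IsNilpotent P := hP.isNilpotent
  have hfaith : LinearGroups.Faith n G := by
    refine ⟨ρ.character, ⟨n, ρ, rfl⟩, fun g hg => rep_injective ρ hne ?_, n,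
      by rw [Representation.char_one, Module.finrank_fin_fun], le_rfl⟩
    rw [map_one]
    exact rep_apply_eq_one_of_char_eq ρ hg
  obtain ⟨K, hK, hidx⟩ := LinearGroups.exists_abelian_factorial (hfaith.subgroup P)
  obtain ⟨k, hk⟩ := hP.index K
  rw [← K.card_mul_index, hk, mul_comm]
  refine Nat.mul_le_mul (Nat.pow_le_pow_right (Fact.out : p.Prime).pos ?_) ?_
  · rw [hk] at hidx
    exact ((Fact.out : p.Prime).pow_dvd_iff_le_factorization (Nat.factorial_ne_zero n)).1 hidx
  · rw [Nat.card_congr (Subgroup.equivMapOfInjective K P.subtype P.subtype_injective).toEquiv]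
    refine abelian_bound ρ hna hne _ fun a ha b hb => ?_
    obtain ⟨a, ha, rfl⟩ := ha
    obtain ⟨b, hb, rfl⟩ := hb
    rw [← map_mul, ← map_mul, hK a ha b hb]

/-- In degree three a non-trivial central element of a `3`-subgroup forces it to be abelian. -/
theorem three_group_abelian [Fintype G] (ρ : Representation ℂ G (Fin 3 → ℂ)) [ρ.IsIrreducible]
    (hna : ∃ a b : G, a * b ≠ b * a) (hne : ρ.character ≠ fun _ => 1)
    (P : Subgroup G) (hP : IsPGroup 3 P) : ∀ a ∈ P, ∀ b ∈ P, a * b = b * a := by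
  classical
  haveI : Fact (Nat.Prime 3) := ⟨by norm_num⟩
  haveI := Fintype.ofFinite P
  have hθ := isCharacter_restrict (G := G) (⟨3, ρ, rfl⟩ : IsCharacter G ρ.character) P
  obtain ⟨hcf, hcoef⟩ := isCharacter_iff_coeff_nat.mp hθ
  choose c hc using fun φ : IrrCharacter P => hcoef φ φ.2
  have hexp : ∀ x : P, ρ.character (x : G) =
      ∑ φ : IrrCharacter P, (c φ : ℂ) * (φ : P → ℂ) x := by
    intro x
    have h := congrFun (eq_sum_irr hcf) x
    simp only [Finset.sum_apply, Pi.smul_apply, smul_eq_mul, hc] at h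
    exact h
  choose d hd0 hd using fun φ : IrrCharacter P => irr_degree_pos φ.2
  have hsum : ∑ φ : IrrCharacter P, c φ * d φ = 3 := by
    have h := hexp 1
    rw [OneMemClass.coe_one, Representation.char_one, Module.finrank_fin_fun] at h
    simp only [hd] at h
    exact_mod_cast h.symm
  by_cases hbig : ∃ φ, c φ ≠ 0 ∧ d φ ≠ 1
  · exfalso
    obtain ⟨φ, hcφ, hdφ⟩ := hbig
    have hle : c φ * d φ ≤ 3 := hsum ▸ Finset.single_le_sum (f := fun φ => c φ * d φ)
      (fun _ _ => Nat.zero_le _) (Finset.mem_univ φ)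
    have hdvd := LinearGroups.irr_degree_dvd φ.2 (hd φ)
    obtain ⟨k, hk⟩ := IsPGroup.iff_card.1 hP
    rw [hk] at hdvd
    obtain ⟨i, -, hi⟩ := (Nat.dvd_prime_pow (by norm_num)).1 hdvd
    have hi1 : i = 1 := by
      rcases i with - | - | i
      · exact absurd (by simpa using hi) hdφ
      · rfl
      · have : 9 ≤ d φ := by rw [hi, pow_succ, pow_succ]; have := Nat.one_le_pow i 3 (by norm_num); omega
        have : d φ ≤ 3 := le_trans (Nat.le_mul_of_pos_left _ (Nat.pos_of_ne_zero hcφ)) hle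
        omega
    rw [hi1, pow_one] at hi
    have hc1 : c φ = 1 := by rw [hi] at hle; omega
    have hothers : ∀ ψ, ψ ≠ φ → c ψ = 0 := by
      intro ψ hψ
      rw [← Finset.add_sum_erase _ _ (Finset.mem_univ φ), hc1, hi, one_mul] at hsum
      have h0 : ∑ x ∈ Finset.univ.erase φ, c x * d x = 0 := by omega
      have h1 := Finset.sum_eq_zero_iff.1 h0 ψ (Finset.mem_erase.2 ⟨hψ, Finset.mem_univ _⟩)
      exact (Nat.mul_eq_zero.1 h1).resolve_right (hd0 ψ).ne'
    have heq : ∀ x : P, ρ.character (x : G) = (φ : P → ℂ) x := by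
      intro x
      rw [hexp, Finset.sum_eq_single φ (fun ψ _ h => by rw [hothers ψ h]; simp)
        (fun h => absurd (Finset.mem_univ φ) h), hc1, Nat.cast_one, one_mul]
    haveI : Nontrivial P := by
      by_contra hnt
      haveI := not_nontrivial_iff_subsingleton.1 hnt
      have := Nat.card_of_subsingleton (1 : P)
      have hk' : Nat.card P = 1 := this
      have hd3 := LinearGroups.irr_degree_dvd φ.2 (hd φ)
      rw [hk', hi] at hd3
      exact absurd hd3 (by norm_num)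
    haveI := hP.center_nontrivial
    obtain ⟨z, hz⟩ := exists_ne (1 : Subgroup.center P)
    obtain ⟨m', σ, hσ, hσχ⟩ := φ.2
    haveI := hσ
    have hw := eq_smul_id_of_commute σ (σ (z : P)) fun g => by
      rw [← map_mul, ← map_mul, Subgroup.mem_center_iff.1 z.2 g]
    have hfr : Module.finrank ℂ (Fin m' → ℂ) = 3 := by
      have h1 := hd φ
      rw [← hσχ, Representation.char_one, hi] at h1
      exact_mod_cast h1
    have h1 : ‖σ.character (z : P)‖ = (Module.finrank ℂ (Fin m' → ℂ) : ℝ) :=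
      (norm_character_eq_iff σ (z : P)).mpr ⟨_, hw⟩
    rw [hσχ, ← heq, hfr] at h1
    obtain ⟨ω, hω⟩ := (norm_character_eq_iff ρ ((z : P) : G)).mp (by
      rw [h1, Module.finrank_fin_fun])
    exact hz (Subtype.ext (Subtype.ext (eq_one_of_scalar ρ hna hne (ω := ω) fun v => by rw [hω]; rfl)))
  · push Not at hbig
    intro a ha b hb
    refine commutatorElement_eq_one_iff_mul_comm.1 (rep_injective ρ hne ?_)
    rw [map_one]
    refine rep_apply_eq_one_of_char_eq ρ ?_
    have h1 := hexp ⁅(⟨a, ha⟩ : P), ⟨b, hb⟩⁆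
    have h2 := hexp 1
    rw [OneMemClass.coe_one] at h2
    rw [show ((⁅(⟨a, ha⟩ : P), ⟨b, hb⟩⁆ : P) : G) = ⁅a, b⁆ from rfl] at h1
    rw [h1, h2]
    refine Finset.sum_congr rfl fun φ _ => ?_
    by_cases hcφ : c φ = 0
    · simp [hcφ]
    obtain ⟨f, hf⟩ := exists_hom_of_degree_one (isCharacter_of_irr φ.2)
      (by rw [hd φ, hbig φ hcφ, Nat.cast_one])
    rw [congrFun hf, congrFun hf, map_commutatorElement, map_one,
      commutatorElement_eq_one_iff_mul_comm.2 (mul_comm _ _)]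

end CfsgLib.TwoPrimeBound
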