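import Cfsg.Agent.Lib.TwoPrimeBound.Degree
import Cfsg.Agent.Lib.SLCard
import Cfsg.Agent.Lib.Blocks.DefectZeroCount
import Cfsg.Agent.S4500
import Cfsg.Agent.S0998
import Cfsg.Agent.S0991
import Cfsg.Agent.S0494
import Cfsg.Agent.S0495

/-!
# Simple groups of order `3 p^a q^b`
-/

namespace CfsgLib.TwoPrimeBound

open Cfsg CfsgLib.CharTheory CfsgLib.Blocks

variable {G : Type*} [Group G] [Finite G] [IsSimpleGroup G]

theorem no_two_primes (hna : ∃ a b : G, a * b ≠ b * a) {p q a b : ℕ} (hp : p.Prime) (hq : q.Prime) :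
    Nat.card G ≠ p ^ a * q ^ b := by
  intro h
  haveI := isSolvable_of_card_two_primes hp hq h
  obtain ⟨x, y, hxy⟩ := hna
  exact hxy (IsSimpleGroup.comm_iff_isSolvable.2 inferInstance x y)

/-- A point stabiliser argument: a proper subgroup of small index is impossible when `25 ∣ #G`. -/
theorem ten_le_index (hna : ∃ a b : G, a * b ≠ b * a) (h25 : 25 ∣ Nat.card G) {H : Subgroup G}
    (hH : H ≠ ⊤) : 10 ≤ H.index := by
  classical
  by_contra hlt
  push Not at hlt
  have hnc : ¬ IsMulCommutative G := fun h => by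
    obtain ⟨x, y, hxy⟩ := hna
    exact hxy (h.is_comm.comm x y)
  obtain ⟨f, hf⟩ := Cfsg.Agent.S0991.result hnc H hH
  have h1 : Nat.card G ∣ (H.index).factorial := by
    refine (Subgroup.card_dvd_of_injective f hf).trans ?_
    refine (Subgroup.card_subgroup_dvd_card (alternatingGroup (Fin H.index))).trans ?_
    rw [Nat.card_eq_fintype_card, Fintype.card_perm, Fintype.card_fin]
  have h2 := h25.trans h1
  generalize H.index = i at hlt h2
  interval_cases i <;> norm_num [Nat.factorial] at h2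

/-- Two distinct Sylow `5`-subgroups of order `25` meeting non-trivially. -/
theorem exists_sylow_meet {n : ℕ} (hn : Nat.card (Sylow 5 G) = n) (hP : ∀ P : Sylow 5 G, Nat.card (P : Subgroup G) = 25)
    (h25 : n % 25 ≠ 1) : ∃ P Q : Sylow 5 G, P ≠ Q ∧ (P : Subgroup G) ⊓ (Q : Subgroup G) ≠ ⊥ := by
  classical
  haveI : Fact (Nat.Prime 5) := ⟨by norm_num⟩
  by_contra hcon
  push Not at hcon
  obtain ⟨P⟩ := (inferInstance : Nonempty (Sylow 5 G))
  haveI := Fintype.ofFinite (Sylow 5 G)
  let S := {Q : Sylow 5 G // Q ≠ P}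
  have hfix : ∀ x : (P : Subgroup G), (x : G) • P = P := fun x =>
    Sylow.smul_eq_iff_mem_normalizer.2 (Subgroup.le_normalizer x.2)
  letI : MulAction (P : Subgroup G) S :=
    { smul := fun x Q => ⟨(x : G) • Q.1, fun h => Q.2 (MulAction.injective (x : G) (h.trans (hfix x).symm))⟩
      one_smul := fun Q => Subtype.ext (one_smul G Q.1)
      mul_smul := fun x y Q => Subtype.ext (mul_smul (x : G) (y : G) Q.1) }
  have hfree : ∀ Q : S, MulAction.stabilizer (P : Subgroup G) Q = ⊥ := by
    intro Q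
    refine (Subgroup.eq_bot_iff_forall _).2 fun x hx => ?_
    have hxQ : (x : G) • Q.1 = Q.1 := congrArg Subtype.val (MulAction.mem_stabilizer_iff.1 hx)
    have h1 : (x : G) ∈ (P : Subgroup G) ⊓ Subgroup.normalizer ((Q.1 : Subgroup G) : Set G) :=
      ⟨x.2, Sylow.smul_eq_iff_mem_normalizer.1 hxQ⟩
    have h2 := IsPGroup.inf_normalizer_sylow P.2 Q.1
    erw [h2] at h1
    rw [hcon P Q.1 (fun h => Q.2 h.symm), Subgroup.mem_bot] at h1
    exact Subtype.ext h1
  have hdvd : 25 ∣ Nat.card S := by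
    rw [← hP P, Nat.card_congr (MulAction.selfEquivOrbitsQuotientProd hfree), Nat.card_prod]
    exact dvd_mul_left _ _
  have hS : Nat.card S = n - 1 := by
    rw [← hn, Nat.card_eq_fintype_card, Nat.card_eq_fintype_card, Fintype.card_subtype_compl,
      Fintype.card_subtype_eq]
  rw [hS] at hdvd
  have : 0 < n := hn ▸ Nat.card_pos
  omega

/-- No simple group of order `75 m` in degree three. -/
theorem no_five_sq (ρ : Representation ℂ G (Fin 3 → ℂ)) [ρ.IsIrreducible]
    (hna : ∃ a b : G, a * b ≠ b * a) (hne : ρ.character ≠ fun _ => 1) {m : ℕ}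
    (hm : m ∣ 64 ∨ m = 7) (hG : Nat.card G = 75 * m) : False := by
  classical
  haveI : Fact (Nat.Prime 5) := ⟨by norm_num⟩
  haveI := Fintype.ofFinite G
  have hm5 : ¬ 5 ∣ m ∧ ¬ 3 ∣ m := by
    rcases hm with h | rfl
    · exact ⟨fun h' => absurd (h'.trans h) (by norm_num), fun h' => absurd (h'.trans h) (by norm_num)⟩
    · norm_num
  have h25 : 25 ∣ Nat.card G := ⟨3 * m, by rw [hG]; ring⟩
  have hm0 : 0 < m := by
    have := Nat.card_pos (α := G); rw [hG] at this; omega
  have hPcard : ∀ P : Sylow 5 G, Nat.card (P : Subgroup G) = 25 := by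
    intro P
    rw [P.card_eq_multiplicity, hG, Nat.factorization_mul (by norm_num) hm0.ne']
    simp only [Finsupp.coe_add, Pi.add_apply, Nat.factorization_eq_zero_of_not_dvd hm5.1, add_zero]
    rw [show (75 : ℕ) = 3 * 5 ^ 2 by norm_num, Nat.factorization_mul (by norm_num) (by norm_num)]
    simp only [Finsupp.coe_add, Pi.add_apply,
      Nat.factorization_eq_zero_of_not_dvd (show ¬ 5 ∣ 3 by norm_num), zero_add]
    rw [Nat.Prime.factorization_pow (show Nat.Prime 5 by norm_num), Finsupp.single_eq_same]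
    norm_num
  obtain ⟨P₀⟩ := (inferInstance : Nonempty (Sylow 5 G))
  have hidx : ∀ P : Sylow 5 G, (P : Subgroup G).index = 3 * m := by
    intro P
    have h1 := (P : Subgroup G).card_mul_index
    rw [hPcard, hG] at h1
    omega
  have hn5 : Nat.card (Sylow 5 G) % 25 ≠ 1 := by
    have h1 := card_sylow_modEq_one 5 G
    have h2 : Nat.card (Sylow 5 G) ∣ 3 * m := hidx P₀ ▸ P₀.card_dvd_index
    have h3 : Nat.card (Sylow 5 G) ≠ 1 := fun h => by
      haveI : Subsingleton (Sylow 5 G) := (Nat.card_eq_one_iff_unique.1 h).1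
      rcases (P₀.normal_of_subsingleton).eq_bot_or_eq_top with e | e
      · have := hPcard P₀; rw [e] at this; simp at this
      · have := hPcard P₀; rw [e, Subgroup.card_top, hG] at this; omega
    unfold Nat.ModEq at h1
    have h4 : Nat.card (Sylow 5 G) ∈ Nat.divisors 192 ∪ Nat.divisors 21 := by
      rcases hm with h | h
      · exact Finset.mem_union_left _ (Nat.mem_divisors.2
          ⟨h2.trans (Nat.mul_dvd_mul_left 3 h), by norm_num⟩)
      · exact Finset.mem_union_right _ (Nat.mem_divisors.2 ⟨by subst h; exact h2, by norm_num⟩)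
    generalize Nat.card (Sylow 5 G) = n at h1 h3 h4
    revert h1 h3
    exact (by decide : ∀ n ∈ Nat.divisors 192 ∪ Nat.divisors 21, n % 5 = 1 % 5 → n ≠ 1 → n % 25 ≠ 1) n h4
  obtain ⟨P, Q, hPQ, hPQ1⟩ := exists_sylow_meet rfl hPcard hn5
  obtain ⟨⟨y, hy⟩, hyo⟩ : ∃ y : ((P : Subgroup G) ⊓ (Q : Subgroup G) : Subgroup G), orderOf y = 5 := by
    refine exists_prime_orderOf_dvd_card' 5 ?_
    obtain ⟨k, hk⟩ := IsPGroup.iff_card.1 (P.2.to_le (inf_le_left : (P : Subgroup G) ⊓ Q ≤ P))
    rcases Nat.eq_zero_or_pos k with h | h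
    · rw [h, pow_zero] at hk
      exact absurd (Subgroup.card_eq_one.1 hk) hPQ1
    · rw [hk]; exact dvd_pow_self 5 h.ne'
  rw [Subgroup.orderOf_mk] at hyo
  have hy1' : y ≠ 1 := fun h => by rw [h, orderOf_one] at hyo; norm_num at hyo
  have hab : ∀ P : Sylow 5 G, ∀ a ∈ (P : Subgroup G), ∀ b ∈ (P : Subgroup G), a * b = b * a := by
    intro P a ha b hb
    exact congrArg Subtype.val
      (IsPGroup.commutative_of_card_eq_prime_sq (p := 5) (G := (P : Subgroup G))
        (by rw [hPcard]; norm_num) ⟨a, ha⟩ ⟨b, hb⟩)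
  set C := Subgroup.centralizer ({y} : Set G) with hC
  have hle : ∀ R : Sylow 5 G, y ∈ (R : Subgroup G) → (R : Subgroup G) ≤ C := fun R hR a ha =>
    Subgroup.mem_centralizer_singleton_iff.2 (hab R a ha y hR)
  have hyC : y ∈ C := Subgroup.mem_centralizer_singleton_iff.2 rfl
  -- the class of `y` has size divisible by three
  have h3C : 3 ∣ C.index := by
    by_contra h3
    have hcop : Nat.Coprime (Module.finrank ℂ (Fin 3 → ℂ)) C.index := by
      rw [Module.finrank_fin_fun]
      exact (show Nat.Prime 3 by norm_num).coprime_iff_not_dvd.2 h3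
    rcases zero_or_norm_of_coprime ρ y hcop with h0 | h1
    · obtain ⟨M, hM⟩ := exists_pModular (show Nat.Prime 5 by norm_num)
      haveI := res_charP hM
      have hroot : ∀ μ ∈ charRoots ρ y, μ ^ 5 = 1 := fun μ hμ =>
        hyo ▸ pow_eq_one_of_mem_charRoots ρ y hμ
      have hsum : ∀ t : Multiset ℂ, (∀ μ ∈ t, μ ^ 5 = 1) →
          MemLocalRing M t.sum ∧ res hM t.sum = (Multiset.card t : AlgInt ⧸ M) := by
        intro t
        induction t using Multiset.induction_on with
        | empty =>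
          intro _
          rw [Multiset.sum_zero, Multiset.card_zero, Nat.cast_zero]
          exact ⟨by simpa using memRing_natCast hM 0, res_zero hM⟩
        | cons μ t ih =>
          intro h
          obtain ⟨h1, h2⟩ := ih fun x hx => h x (Multiset.mem_cons_of_mem hx)
          obtain ⟨h3, h4⟩ := res_root hM (h μ (Multiset.mem_cons_self μ t))
          rw [Multiset.sum_cons, Multiset.card_cons, res_add hM h3 h1, h2, h4]
          exact ⟨(loc hM).add_mem h3 h1, by push_cast; ring⟩
      obtain ⟨-, h1⟩ := hsum _ hroot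
      rw [← character_eq_sum_charRoots, h0, card_charRoots, Module.finrank_fin_fun, res_zero] at h1
      have h2 := (CharP.cast_eq_zero_iff (AlgInt ⧸ M) 5 3).1 h1.symm
      norm_num at h2
    · obtain ⟨ω, hω⟩ := (norm_character_eq_iff ρ y).mp h1
      exact hy1' (eq_one_of_scalar ρ hna hne (ω := ω) fun v => by rw [hω]; rfl)
  have hCne : C ≠ ⊤ := fun h => hy1' (central_eq_one hna fun g => by
    have hg : g ∈ C := h ▸ Subgroup.mem_top g
    exact (Subgroup.mem_centralizer_singleton_iff.1 hg).symm)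
  have hcard : Nat.card C * C.index = 75 * m := hG ▸ C.card_mul_index
  have hC3 : ¬ 3 ∣ Nat.card C := fun h => by
    have h9 := Nat.mul_dvd_mul h h3C
    rw [hcard, show 75 * m = 3 * (25 * m) by ring] at h9
    have := Nat.dvd_of_mul_dvd_mul_left (by norm_num) h9
    exact hm5.2 (((show Nat.Coprime 3 25 by norm_num)).dvd_of_dvd_mul_left this)
  have hP1 : y ∈ (P : Subgroup G) := hy.1
  have hQ1 : y ∈ (Q : Subgroup G) := hy.2
  obtain ⟨j, hj⟩ : 25 ∣ Nat.card C := hPcard P ▸ Subgroup.card_dvd_of_le (hle P hP1)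
  have hjm : j ∣ m := by
    have h1 : Nat.card C ∣ 3 * (25 * m) := ⟨C.index, by rw [hcard]; ring⟩
    have h2 := (((show Nat.Prime 3 by norm_num).coprime_iff_not_dvd.2 hC3).symm).dvd_of_dvd_mul_left h1
    rw [hj] at h2
    exact Nat.dvd_of_mul_dvd_mul_left (by norm_num) h2
  set PC : Sylow 5 C := P.subtype (hle P hP1) with hPC
  set QC : Sylow 5 C := Q.subtype (hle Q hQ1) with hQC
  have hne' : PC ≠ QC := fun h => hPQ (by
    have h1 := congrArg (fun R : Sylow 5 C => ((R : Subgroup C)).map C.subtype) h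
    simp only [hPC, hQC, Sylow.coe_subtype, Subgroup.subgroupOf_map_subtype,
      inf_eq_left.2 (hle P hP1), inf_eq_left.2 (hle Q hQ1)] at h1
    exact Sylow.ext h1)
  have hPCcard : Nat.card (PC : Subgroup C) = 25 := by
    rw [hPC, Sylow.coe_subtype, Nat.card_congr (Subgroup.subgroupOfEquivOfLe (hle P hP1)).toEquiv,
      hPcard]
  have hPCidx : (PC : Subgroup C).index = j := by
    have h1 := (PC : Subgroup C).card_mul_index
    rw [hPCcard, hj] at h1
    omega
  have hn' : Nat.card (Sylow 5 C) ∣ j := hPCidx ▸ PC.card_dvd_index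
  have hn'1 : Nat.card (Sylow 5 C) ≠ 1 := fun h =>
    hne' ((Nat.card_eq_one_iff_unique.1 h).1.elim _ _)
  have hn'5 : Nat.card (Sylow 5 C) % 5 = 1 := by
    have := card_sylow_modEq_one 5 C
    exact this
  rcases hm with hm | rfl
  swap
  · rcases (Nat.dvd_prime (by norm_num : Nat.Prime 7)).1 (hn'.trans hjm) with h | h
    · exact hn'1 h
    · rw [h] at hn'5; norm_num at hn'5
  have hn16 : Nat.card (Sylow 5 C) = 16 := by
    have h1 : Nat.card (Sylow 5 C) ∈ Nat.divisors 64 :=
      Nat.mem_divisors.2 ⟨(hn'.trans hjm).trans hm, by norm_num⟩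
    generalize Nat.card (Sylow 5 C) = n at hn'1 hn'5 h1
    exact (by decide : ∀ n ∈ Nat.divisors 64, n ≠ 1 → n % 5 = 1 → n = 16) n h1 hn'1 hn'5
  have hi := ten_le_index hna h25 hCne
  have hj16 : j = 16 ∧ m = 64 := by
    rw [hj] at hcard
    have hj1 : j ∈ Nat.divisors 64 := Nat.mem_divisors.2 ⟨hjm.trans hm, by norm_num⟩
    have hm1 : m ∈ Nat.divisors 64 := Nat.mem_divisors.2 ⟨hm, by norm_num⟩
    have h10 : 10 * j ≤ 3 * m := by
      have : j * 10 ≤ j * C.index := Nat.mul_le_mul_left j hi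
      nlinarith
    exact (by decide : ∀ j ∈ Nat.divisors 64, ∀ m ∈ Nat.divisors 64, 16 ∣ j → 10 * j ≤ 3 * m →
      j = 16 ∧ m = 64) j hj1 m hm1 (hn16 ▸ hn') h10
  have hPCab : ∀ a ∈ (PC : Subgroup C), ∀ b ∈ (PC : Subgroup C), a * b = b * a := fun a ha b hb =>
    Subtype.ext (hab P _ (Subgroup.mem_subgroupOf.1 ha) _ (Subgroup.mem_subgroupOf.1 hb))
  have hNP : Subgroup.normalizer ((PC : Subgroup C) : Set C) = (PC : Subgroup C) := by
    refine (Subgroup.eq_of_le_of_card_ge Subgroup.le_normalizer ?_).symm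
    have h1 := (Subgroup.normalizer ((PC : Subgroup C) : Set C)).card_mul_index
    have h2 := PC.card_eq_index_normalizer
    rw [hn16] at h2
    erw [← h2] at h1
    rw [hj, hj16.1] at h1
    omega
  have htr : Subgroup.normalizer ((PC : Subgroup C) : Set C) ≤
      Subgroup.centralizer ((PC : Subgroup C) : Set C) := by
    rw [hNP]
    exact fun a ha => Subgroup.mem_centralizer_iff.2 fun b hb => hPCab b hb a ha
  have hcomp := MonoidHom.ker_transferSylow_isComplement' PC htr
  set K := (MonoidHom.transferSylow PC htr).ker with hK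
  have hKcard : Nat.card K = 16 := by
    have h1 := hcomp.card_mul
    rw [hPCcard, hj, hj16.1] at h1
    omega
  haveI : Fact (Nat.Prime 2) := ⟨Nat.prime_two⟩
  have hKp : IsPGroup 2 K := IsPGroup.of_card (n := 4) (by rw [hKcard]; norm_num)
  haveI : Nontrivial K := Finite.one_lt_card_iff_nontrivial.1 (by rw [hKcard]; norm_num)
  haveI : Nontrivial (Subgroup.center K) := hKp.center_nontrivial
  set Z : Subgroup C := (Subgroup.center K).map K.subtype with hZ
  haveI hZn : Z.Normal := by
    haveI : K.Normal := MonoidHom.normal_ker _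
    exact ConjAct.normal_of_characteristic_of_normal
  letI : MulAction (PC : Subgroup C) Z :=
    MulAction.compHom Z ((MulAut.conjNormal (H := Z)).comp (PC : Subgroup C).subtype)
  have hfix : Nat.card (MulAction.fixedPoints (PC : Subgroup C) Z) = 1 := by
    refine Nat.card_eq_one_iff_unique.2 ⟨⟨fun u v => ?_⟩, ⟨⟨1, fun x => ?_⟩⟩⟩
    · have key : ∀ u : MulAction.fixedPoints (PC : Subgroup C) Z, ((u : Z) : C) = 1 := by
        intro u
        have hcom : ∀ x ∈ (PC : Subgroup C), x * (u : Z) = ((u : Z) : C) * x := by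
          intro x hx
          have h1 : ((MulAut.conjNormal (H := Z) x (u : Z) : Z) : C) = ((u : Z) : C) :=
            congrArg Subtype.val (u.2 ⟨x, hx⟩)
          rw [MulAut.conjNormal_apply] at h1
          exact mul_inv_eq_iff_eq_mul.1 h1
        have h1 : ((u : Z) : C) ∈ (PC : Subgroup C) := by
          refine hNP.le (Subgroup.mem_normalizer_iff.2 ?_)
          intro x
          constructor
          · intro hx
            rwa [← hcom x hx, mul_inv_cancel_right]
          · intro hx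
            have e := hcom _ hx
            have h3 : ((u : Z) : C) * x * ((u : Z) : C)⁻¹ * ((u : Z) : C) = ((u : Z) : C) * x := by
              group
            rw [h3] at e
            rwa [← mul_left_cancel e] at hx
        obtain ⟨k, -, hk⟩ := Subgroup.mem_map.1 (u : Z).2
        have h2 : ((u : Z) : C) ∈ K := hk ▸ k.2
        exact (Subgroup.mem_bot.1 (hcomp.disjoint.le_bot ⟨h2, h1⟩))
      exact Subtype.ext (Subtype.ext (by rw [key u, key v]))
    · exact map_one (MulAut.conjNormal (H := Z) (x : C))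
  have hPCp : IsPGroup 5 (PC : Subgroup C) := PC.2
  have hZmod := hPCp.card_modEq_card_fixedPoints Z
  rw [hfix] at hZmod
  have hZcard : Nat.card Z = Nat.card (Subgroup.center K) :=
    (Nat.card_congr (Subgroup.equivMapOfInjective _ K.subtype K.subtype_injective).toEquiv).symm
  have hKab : ∀ a b : K, a * b = b * a := by
    have h1 : Nat.card (Subgroup.center K) = Nat.card K := by
      have h2 : Nat.card (Subgroup.center K) ∈ Nat.divisors 16 :=
        Nat.mem_divisors.2 ⟨hKcard ▸ Subgroup.card_subgroup_dvd_card _, by norm_num⟩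
      have h3 := Finite.one_lt_card (α := Subgroup.center K)
      rw [hZcard] at hZmod
      rw [hKcard]
      generalize Nat.card (Subgroup.center K) = n at hZmod h2 h3
      exact (by decide : ∀ n ∈ Nat.divisors 16, n % 5 = 1 % 5 → 1 < n → n = 16) n h2 hZmod h3
    intro a b
    have h2 := Subgroup.eq_top_of_card_eq _ h1
    exact (Subgroup.mem_center_iff.1 (h2 ▸ Subgroup.mem_top a : a ∈ Subgroup.center K) b).symm
  set K' : Subgroup G := K.map C.subtype with hK'
  set A : Subgroup G := K' ⊔ Subgroup.zpowers y with hA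
  have hA1 : K' ≤ Subgroup.centralizer (K' : Set G) := by
    rintro _ ⟨a, ha, rfl⟩
    refine Subgroup.mem_centralizer_iff.2 ?_
    rintro _ ⟨b, hb, rfl⟩
    exact (congrArg Subtype.val (congrArg Subtype.val (hKab ⟨a, ha⟩ ⟨b, hb⟩))).symm
  have hA2 : K' ≤ Subgroup.centralizer (Subgroup.zpowers y : Set G) := by
    rintro _ ⟨a, ha, rfl⟩
    refine Subgroup.mem_centralizer_iff.2 fun b hb => ?_
    obtain ⟨i, rfl⟩ := hb
    have h1 : Commute y (a : G) := (Subgroup.mem_centralizer_singleton_iff.1 a.2).symm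
    exact (h1.zpow_left i).eq
  have hAab : A ≤ Subgroup.centralizer (A : Set G) := by
    refine sup_le (Subgroup.le_centralizer_iff.1 (sup_le hA1 (Subgroup.le_centralizer_iff.1 hA2)))
      (Subgroup.le_centralizer_iff.1 (sup_le hA2 ?_))
    exact Subgroup.le_centralizer _
  have hbound := abelian_bound ρ hna hne A fun a ha b hb =>
    (Subgroup.mem_centralizer_iff.1 (hAab hb) a ha)
  have h16 : 16 ∣ Nat.card A := by
    have : Nat.card K' = 16 := by
      rw [hK', ← Nat.card_congr (Subgroup.equivMapOfInjective K C.subtype C.subtype_injective).toEquiv,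
        hKcard]
    exact this ▸ Subgroup.card_dvd_of_le le_sup_left
  have h5 : 5 ∣ Nat.card A := by
    have h1 : Nat.card (Subgroup.zpowers y) = 5 := by rw [Nat.card_zpowers, hyo]
    exact h1 ▸ Subgroup.card_dvd_of_le le_sup_right
  have h80 := Nat.le_of_dvd Nat.card_pos ((show Nat.Coprime 16 5 by norm_num).mul_dvd_of_dvd_of_dvd h16 h5)
  exact absurd (h80.trans hbound) (by norm_num)

/-- Simple groups of order `3 p^a q^b` with `a ≤ 2`. -/
theorem three_case (hna : ∃ a b : G, a * b ≠ b * a) {p q a b : ℕ} (hp : p.Prime) (hq : q.Prime)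
    (hpq : p ≠ q) (ha : a ≤ 2) (hG : Nat.card G = 3 * p ^ a * q ^ b) :
    Nonempty (G ≃* alternatingGroup (Fin 5)) ∨
      Nonempty (G ≃* Matrix.ProjectiveSpecialLinearGroup (Fin 2) (ZMod 7)) := by
  classical
  haveI := Fintype.ofFinite G
  haveI : Nontrivial G := by
    obtain ⟨x, y, hxy⟩ := hna
    exact ⟨x * y, y * x, hxy⟩
  have h3 : Nat.Prime 3 := by norm_num
  have hp3 : p ≠ 3 := fun h => by
    subst h
    exact no_two_primes hna (a := a + 1) (b := b) h3 hq (by rw [hG]; ring)
  have hq3 : q ≠ 3 := fun h => by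
    subst h
    exact no_two_primes hna (a := b + 1) (b := a) h3 hp (by rw [hG]; ring)
  have ha0 : a ≠ 0 := fun h => by
    subst h
    exact no_two_primes hna (a := 1) (b := b) h3 hq (by rw [hG]; ring)
  have hb0 : b ≠ 0 := fun h => by
    subst h
    exact no_two_primes hna (a := 1) (b := a) h3 hp (by rw [hG]; ring)
  obtain ⟨-, χ, hχne, k, hk⟩ := Cfsg.Agent.S4500.result p q 3 a b 1 hp hq h3 hpq hp3 hq3 ha
    (by rw [hG]; ring)
  obtain ⟨n₀, ρ₀, hirr₀, hρ₀⟩ := χ.2
  haveI := hirr₀
  have hdvd : charDegree (χ : G → ℂ) ∣ Nat.card G := by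
    obtain ⟨d, hd⟩ : ∃ d : ℕ, (χ : G → ℂ) 1 = d :=
      ⟨n₀, by rw [← hρ₀, Representation.char_one, Module.finrank_fin_fun]⟩
    have h1 := irr_charDegree_cast χ
    rw [hd] at h1
    exact (show d = charDegree (χ : G → ℂ) by exact_mod_cast h1.symm) ▸
      LinearGroups.irr_degree_dvd χ.2 hd
  have hk1 : k = 1 := by
    rcases k with - | - | k
    · exfalso
      obtain ⟨ρ, hirr, hne⟩ := exists_rep χ (by simpa using hk) hχne
      have := two_lt_degree ρ hna hne
      omega
    · rfl
    · exfalso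
      rw [hk, pow_succ, pow_succ, mul_assoc] at hdvd
      have h9 : 3 * 3 ∣ 3 * (p ^ a * q ^ b) := by
        rw [← mul_assoc 3 (p ^ a) (q ^ b), ← hG]
        exact (dvd_mul_left _ _).trans hdvd
      have h33 := Nat.dvd_of_mul_dvd_mul_left (by norm_num) h9
      rcases h3.dvd_mul.1 h33 with h | h
      · exact hp3 ((Nat.prime_dvd_prime_iff_eq h3 hp).1 (h3.dvd_of_dvd_pow h)).symm
      · exact hq3 ((Nat.prime_dvd_prime_iff_eq h3 hq).1 (h3.dvd_of_dvd_pow h)).symm
  rw [hk1, pow_one] at hk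
  obtain ⟨ρ, hirr, hne⟩ := exists_rep χ hk hχne
  haveI := hirr
  have hsmall : ∀ l e : ℕ, l.Prime → e ≠ 0 → l ≠ 3 → l ^ e ∣ Nat.card G →
      (l = 2 ∧ e ≤ 6) ∨ (l = 5 ∧ e ≤ 2) ∨ (l = 7 ∧ e = 1) := by
    intro l e hl he hl3 hd
    haveI : Fact l.Prime := ⟨hl⟩
    have h7 : l ≤ 7 := by
      by_contra hgt
      have := prime_le ρ hna hne hl ((dvd_pow_self l he).trans hd) (by omega)
      omega
    have hb := prime_pow_le ρ hna hne hd
    have hl2 := hl.two_le
    interval_cases l <;> norm_num at hl <;> first | exact absurd rfl hl3 | simp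
    · have h6 : (Nat.factorial 3).factorization 2 = 1 := by
        rw [show Nat.factorial 3 = 2 * 3 by rfl, Nat.factorization_mul (by norm_num) (by norm_num)]
        simp [Nat.Prime.factorization_self Nat.prime_two, Nat.factorization_eq_zero_of_not_dvd (show ¬ 2 ∣ 3 by norm_num)]
      rw [h6] at hb
      by_contra hgt
      have : 2 ^ 7 ≤ 2 ^ e := Nat.pow_le_pow_right (by norm_num) (by omega)
      norm_num at hb this
      omega
    · rw [Nat.factorization_eq_zero_of_not_dvd (show ¬ 5 ∣ Nat.factorial 3 by decide)] at hb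
      by_contra hgt
      have : 5 ^ 3 ≤ 5 ^ e := Nat.pow_le_pow_right (by norm_num) (by omega)
      norm_num at hb this
      omega
    · rw [Nat.factorization_eq_zero_of_not_dvd (show ¬ 7 ∣ Nat.factorial 3 by decide)] at hb
      by_contra hgt
      have : 7 ^ 2 ≤ 7 ^ e := Nat.pow_le_pow_right (by norm_num) (by omega)
      norm_num at hb this
      omega
  have key : ∀ r e s f : ℕ, r.Prime → s.Prime → r ≠ s → s ≠ 3 → r ≠ 3 → e = 1 →
      Nat.card G = 3 * r ^ e * s ^ f →
      Nonempty (G ≃* alternatingGroup (Fin 5)) ∨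
        Nonempty (G ≃* Matrix.ProjectiveSpecialLinearGroup (Fin 2) (ZMod 7)) := by
    intro r e s f hr hs hrs hs3 hr3 he hGe
    subst he
    rcases Cfsg.Agent.S0998.result (isCyclic_or_nonabelian_false hna) 3 s r f h3 hs hr (Ne.symm hs3)
        (Ne.symm hr3) hrs.symm (by rw [hGe, pow_one]) with ⟨F, _, _, hF, ⟨φ⟩⟩ | ⟨F, _, _, hF, ⟨φ⟩⟩
    · refine Or.inl (Cfsg.Agent.S0494.result ?_)
      have h' := CfsgLib.SLCard.gcd_mul_card_PSL (F := F) (n := 2) (by norm_num)
      rw [CfsgLib.SLCard.card_SL_two, hF] at h'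
      rw [Nat.card_congr φ.toEquiv]
      have h'' : 2 * Nat.card (Matrix.ProjectiveSpecialLinearGroup (Fin 2) F) = 120 := h'
      omega
    · haveI : Fact (Nat.Prime 7) := ⟨by norm_num⟩
      refine Or.inr (Cfsg.Agent.S0495.result (F := ZMod 7) ?_ (ZMod.card 7))
      have h' := CfsgLib.SLCard.gcd_mul_card_PSL (F := F) (n := 2) (by norm_num)
      rw [CfsgLib.SLCard.card_SL_two, hF] at h'
      rw [Nat.card_congr φ.toEquiv]
      have h'' : 2 * Nat.card (Matrix.ProjectiveSpecialLinearGroup (Fin 2) F) = 336 := h'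
      omega
  have hpd : p ^ a ∣ Nat.card G := ⟨3 * q ^ b, by rw [hG]; ring⟩
  have hqd : q ^ b ∣ Nat.card G := ⟨3 * p ^ a, by rw [hG]; ring⟩
  rcases hsmall p a hp ha0 hp3 hpd with ⟨rfl, ha6⟩ | ⟨rfl, ha2⟩ | ⟨rfl, ha1⟩ <;>
    rcases hsmall q b hq hb0 hq3 hqd with ⟨rfl, hb6⟩ | ⟨rfl, hb2⟩ | ⟨rfl, hb1⟩
  all_goals first
    | exact absurd rfl hpq
    | exact key _ _ _ _ hq hp (Ne.symm hpq) hp3 hq3 hb1 (by rw [hG]; ring)
    | exact key _ _ _ _ hp hq hpq hq3 hp3 ha1 hG
    | skip
  · rcases (show b = 1 ∨ b = 2 by omega) with h | h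
    · exact key _ _ _ _ hq hp (Ne.symm hpq) hp3 hq3 h (by rw [hG]; ring)
    · subst h
      exact (no_five_sq ρ hna hne (m := 2 ^ a) (Or.inl (show 2 ^ a ∣ 2 ^ 6 from pow_dvd_pow 2 ha6))
        (by rw [hG]; ring)).elim
  · rcases (show a = 1 ∨ a = 2 by omega) with h | h
    · exact key _ _ _ _ hp hq hpq hq3 hp3 h hG
    · subst h
      exact (no_five_sq ρ hna hne (m := 2 ^ b) (Or.inl (show 2 ^ b ∣ 2 ^ 6 from pow_dvd_pow 2 hb6))
        (by rw [hG]; ring)).elim

end CfsgLib.TwoPrimeBound
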